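import Mathlib
import Groth.Prelude.Def_Coh
import Groth.Prelude.Def_W4bk4goldsch23FF

/-! # The function field of an integral `k`-scheme as a `k`-algebra -/

set_option autoImplicit false
set_option linter.style.haveILetI false
set_option linter.unusedSectionVars false

universe u

open AlgebraicGeometry CategoryTheory TopologicalSpace

namespace Groth.Agent.Lib.Helper18.Curve

section Top

variable {X : Type*} [TopologicalSpace X]

/-- In a `T₀` space of dimension `≤ 1` with a generic point, every other point is closed. -/
theorem isClosed_singleton_of_dim_le_one [T0Space X] (h : topologicalKrullDim X ≤ 1)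
    {η : X} (hη : IsGenericPoint η (Set.univ : Set X)) {x : X} (hx : x ≠ η) :
    IsClosed ({x} : Set X) := by
  have hηx : ∀ y : X, η ⤳ y := fun y => hη.specializes (Set.mem_univ y)
  let a : IrreducibleCloseds X := ⟨closure {x}, isIrreducible_singleton.closure, isClosed_closure⟩
  rcases Order.krullDim_le_one_iff.mp h a with hmin | hmax
  · have : closure ({x} : Set X) = {x} := by
      refine Set.Subset.antisymm ?_ subset_closure
      intro y hy
      let b : IrreducibleCloseds X :=
        ⟨closure {y}, isIrreducible_singleton.closure, isClosed_closure⟩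
      have hba : b ≤ a := by
        show closure {y} ⊆ closure {x}
        exact closure_minimal (Set.singleton_subset_iff.mpr hy) isClosed_closure
      have hab : a ≤ b := hmin hba
      have hxy : x ∈ closure ({y} : Set X) := hab (subset_closure (Set.mem_singleton x))
      have h1 : y ⤳ x := specializes_iff_mem_closure.mpr hxy
      have h2 : x ⤳ y := specializes_iff_mem_closure.mpr hy
      exact (h2.antisymm h1).eq.symm
    rw [← this]
    exact isClosed_closure
  · exfalso
    let t : IrreducibleCloseds X :=
      ⟨closure {η}, isIrreducible_singleton.closure, isClosed_closure⟩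
    have hat : a ≤ t := by
      show closure {x} ⊆ closure {η}
      rw [hη.def]
      exact Set.subset_univ _
    have hta : t ≤ a := hmax hat
    have : η ∈ closure ({x} : Set X) := hta (subset_closure (Set.mem_singleton η))
    have h1 : x ⤳ η := specializes_iff_mem_closure.mpr this
    exact hx (h1.antisymm (hηx x)).eq

/-- A space of positive dimension has a point other than a given one. -/
theorem exists_ne_generic (h : 0 < topologicalKrullDim X) (η : X) : ∃ x : X, x ≠ η := by
  by_contra hcon
  have hcon' : ∀ x : X, x = η := fun x => by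
    by_contra hx
    exact hcon ⟨x, hx⟩
  have : topologicalKrullDim X ≤ 0 := by
    unfold topologicalKrullDim
    rw [Order.krullDim_nonpos_iff_forall_isMax]
    intro a b _
    obtain ⟨y, hy⟩ := a.isIrreducible'.nonempty
    intro z _
    rw [hcon' z, ← hcon' y]
    exact hy
  exact absurd h (not_lt.mpr this)

end Top

theorem eq_toSpecΓ_comp {X : Scheme.{u}} {R : CommRingCat.{u}} (f : X ⟶ Spec R) :
    f = X.toSpecΓ ≫ Spec.map ((Scheme.ΓSpecIso R).inv ≫ f.appTop) := by
  rw [Spec.map_comp, ← Scheme.toSpecΓ_naturality_assoc, ← SpecMap_ΓSpecIso_hom, ← Spec.map_comp,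
    Iso.inv_hom_id, Spec.map_id, Category.comp_id]

variable {k : Type u} [Field k] {C : Scheme.{u}} [IsIntegral C]

instance topNonempty : Nonempty ((⊤ : C.Opens) : Type u) :=
  ⟨⟨(inferInstance : Nonempty C).some, trivial⟩⟩

/-- The function field of an integral `k`-scheme, remembering its structure morphism. -/
def FF (_f : C ⟶ Spec (CommRingCat.of k)) : Type u := C.functionField

variable (f : C ⟶ Spec (CommRingCat.of k))

noncomputable instance : Field (FF f) := inferInstanceAs (Field C.functionField)

/-- The ring map `k → K`. -/
noncomputable def kToFF : k →+* FF f :=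
  (C.germToFunctionField ⊤).hom.comp (Coh.toGlobal f)

noncomputable instance : Algebra k (FF f) := (kToFF f).toAlgebra

theorem algebraMap_eq : algebraMap k (FF f) = kToFF f := rfl

noncomputable instance (x : C) : Algebra (C.presheaf.stalk x) (FF f) :=
  inferInstanceAs (Algebra (C.presheaf.stalk x) C.functionField)

instance (x : C) : IsFractionRing (C.presheaf.stalk x) (FF f) :=
  inferInstanceAs (IsFractionRing (C.presheaf.stalk x) C.functionField)

noncomputable instance algΓFF (U : C.Opens) [Nonempty U] : Algebra Γ(C, U) (FF f) :=
  inferInstanceAs (Algebra Γ(C, U) C.functionField)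

/-- The generic point, as a morphism `Spec K ⟶ C`. -/
noncomputable def genericMap : Spec (CommRingCat.of (FF f)) ⟶ C :=
  C.fromSpecStalk (genericPoint C)

theorem genericMap_comp :
    genericMap f ≫ f = Spec.map (CommRingCat.ofHom (kToFF f)) := by
  refine (congrArg (fun g => genericMap f ≫ g) (eq_toSpecΓ_comp f)).trans ?_
  show C.fromSpecStalk (genericPoint C) ≫ C.toSpecΓ ≫ _ = _
  rw [Scheme.fromSpecStalk_toSpecΓ_assoc, ← Spec.map_comp]
  rfl

/-- `k → Γ(C, U)`. -/
noncomputable def kToΓ (U : C.Opens) : k →+* Γ(C, U) :=
  (f.appLE ⊤ U le_top).hom.comp (Scheme.ΓSpecIso (CommRingCat.of k)).inv.hom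

theorem germ_kToΓ (U : C.Opens) [Nonempty U] (c : k) :
    algebraMap Γ(C, U) (FF f) (kToΓ f U c) = algebraMap k (FF f) c := by
  show C.germToFunctionField U ((f.appLE ⊤ U le_top).hom _) = C.germToFunctionField ⊤ _
  unfold Scheme.Hom.appLE
  exact C.presheaf.germ_res_apply (homOfLE (le_top : U ≤ ⊤)) (genericPoint C) _ _

theorem finiteType_kToΓ [LocallyOfFiniteType f] {U : C.Opens} (hU : IsAffineOpen U) :
    (kToΓ f U).FiniteType := by
  have hsurj : Function.Surjective (Scheme.ΓSpecIso (CommRingCat.of k)).inv.hom :=
    (ConcreteCategory.bijective_of_isIso (Scheme.ΓSpecIso (CommRingCat.of k)).inv).2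
  exact RingHom.FiniteType.comp (f.finiteType_appLE (isAffineOpen_top _) hU le_top)
      (RingHom.FiniteType.of_surjective _ hsurj)

theorem ringKrullDim_Γ_le {U : C.Opens} (hU : IsAffineOpen U)
    (hdim : topologicalKrullDim C = 1) : ringKrullDim Γ(C, U) ≤ 1 := by
  rw [← PrimeSpectrum.topologicalKrullDim_eq_ringKrullDim]
  have h1 : topologicalKrullDim (PrimeSpectrum Γ(C, U)) = topologicalKrullDim U :=
    (IsHomeomorph.topologicalKrullDim_eq _ (Scheme.homeoOfIso hU.isoSpec).isHomeomorph).symm
  rw [h1]
  calc topologicalKrullDim U ≤ topologicalKrullDim C := topologicalKrullDim_subspace_le C U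
    _ = 1 := hdim

/-- A point other than the generic point of a curve is closed. -/
theorem isClosed_singleton_of_ne_generic (hdim : topologicalKrullDim C = 1) {x : C}
    (hx : x ≠ genericPoint C) : IsClosed ({x} : Set C) :=
  isClosed_singleton_of_dim_le_one hdim.le (genericPoint_spec C) hx

end Groth.Agent.Lib.Helper18.Curve
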