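import Groth.Agent.Lib.Helper18.Curve.Basic
import Groth.Agent.S2150

/-! # Geometric irreducibility: the constant field is algebraically closed in the function field -/

set_option autoImplicit false
set_option linter.style.haveILetI false
set_option linter.unusedSectionVars false

universe u

open AlgebraicGeometry CategoryTheory CategoryTheory.Limits TopologicalSpace TensorProduct

namespace Groth.Agent.Lib.Helper18.Curve

theorem irreducibleSpace_of_isInducing {Z X : Type*} [TopologicalSpace Z] [TopologicalSpace X]
    {e : Z → X} (he : Topology.IsInducing e) {ξ : X} (hξ : IsGenericPoint ξ (Set.univ : Set X))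
    (hmem : ξ ∈ Set.range e) : IrreducibleSpace Z := by
  obtain ⟨z, rfl⟩ := hmem
  have h1 : closure ({z} : Set Z) = Set.univ := by
    rw [he.closure_eq_preimage_closure_image, Set.image_singleton, hξ.def, Set.preimage_univ]
  rw [irreducibleSpace_def]
  show IsIrreducible (Set.univ : Set Z)
  rw [← h1]
  exact isIrreducible_singleton.closure

theorem irreducibleSpace_of_homeomorph {Z X : Type*} [TopologicalSpace Z] [TopologicalSpace X]
    (e : Z ≃ₜ X) [IrreducibleSpace Z] : IrreducibleSpace X := by
  rw [irreducibleSpace_def]
  show IsIrreducible (Set.univ : Set X)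
  rw [← e.surjective.range_eq, ← Set.image_univ]
  exact (IrreducibleSpace.isIrreducible_univ Z).image e e.continuous.continuousOn

variable {k : Type u} [Field k] {C : Scheme.{u}} [IsIntegral C]
  (f : C ⟶ Spec (CommRingCat.of k))

theorem irreducibleSpace_tensor [GeometricallyIrreducible f] (k' : Type u) [Field k']
    [Algebra k k'] : IrreducibleSpace (PrimeSpectrum (k' ⊗[k] FF f)) := by
  let ι : Spec (CommRingCat.of k') ⟶ Spec (CommRingCat.of k) :=
    Spec.map (CommRingCat.ofHom (algebraMap k k'))
  haveI hX' : IrreducibleSpace ↥(pullback f ι) :=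
    pullback_of_geometrically (GeometricallyIrreducible.geometrically_irreducibleSpace (f := f)) k' ι
  let π : pullback f ι ⟶ C := pullback.fst f ι
  let g : Spec (CommRingCat.of (FF f)) ⟶ C := genericMap f
  haveI : IsPreimmersion g := inferInstanceAs (IsPreimmersion (C.fromSpecStalk (genericPoint C)))
  let e : pullback g π ⟶ pullback f ι := pullback.snd g π
  -- the generic point lies in the range of `e`
  have hπsurj : Function.Surjective π := by
    rw [← Set.range_eq_univ, Scheme.Pullback.range_fst]
    have : Set.range ι = Set.univ := by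
      rw [Set.eq_univ_iff_forall]
      intro y
      obtain ⟨z⟩ : Nonempty ↥(Spec (CommRingCat.of k')) :=
        inferInstanceAs (Nonempty (PrimeSpectrum k'))
      haveI : Subsingleton ↥(Spec (CommRingCat.of k)) :=
        inferInstanceAs (Subsingleton (PrimeSpectrum k))
      exact ⟨z, Subsingleton.elim _ _⟩
    rw [this, Set.preimage_univ]
  have hξ : genericPoint ↥(pullback f ι) ∈ Set.range e := by
    rw [Scheme.Pullback.range_snd]
    show π (genericPoint _) ∈ Set.range (C.fromSpecStalk (genericPoint C))
    rw [Scheme.range_fromSpecStalk]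
    obtain ⟨y, hy⟩ := hπsurj (genericPoint C)
    have h1 : genericPoint ↥(pullback f ι) ⤳ y := (genericPoint_spec _).specializes trivial
    have h2 := h1.map π.continuous
    rw [hy] at h2
    exact h2
  haveI hZ : IrreducibleSpace ↥(pullback g π) :=
    irreducibleSpace_of_isInducing e.isEmbedding.isInducing (genericPoint_spec _) hξ
  -- identify `pullback g π` with `Spec (K ⊗ k')`
  let i1 : pullback g π ≅ pullback (g ≫ f) ι := pullbackRightPullbackFstIso f ι g
  let i2 : pullback (g ≫ f) ι ≅ pullback (Spec.map (CommRingCat.ofHom (algebraMap k (FF f)))) ι :=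
    pullback.congrHom (genericMap_comp f) rfl
  let i3 : pullback (Spec.map (CommRingCat.ofHom (algebraMap k (FF f)))) ι ≅
      Spec (CommRingCat.of (FF f ⊗[k] k')) := pullbackSpecIso k (FF f) k'
  let h : ↥(pullback g π) ≃ₜ PrimeSpectrum (FF f ⊗[k] k') :=
    Scheme.homeoOfIso (i1 ≪≫ i2 ≪≫ i3)
  haveI : IrreducibleSpace (PrimeSpectrum (FF f ⊗[k] k')) := irreducibleSpace_of_homeomorph h
  exact irreducibleSpace_of_homeomorph
    (PrimeSpectrum.homeomorphOfRingEquiv (Algebra.TensorProduct.comm k (FF f) k').toRingEquiv)

/-- Over a perfect field, geometric irreducibility forces the constant field to be algebraically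
closed in the function field. -/
theorem mem_range_of_isAlgebraic [PerfectField k] [GeometricallyIrreducible f] (y : FF f)
    (hy : IsAlgebraic k y) : y ∈ Set.range (algebraMap k (FF f)) := by
  refine (Groth.Agent.S2150.result (k := k) (K := FF f)).mp
    (fun k' _ _ => irreducibleSpace_tensor f k') y ?_
  exact PerfectField.separable_of_irreducible (minpoly.irreducible hy.isIntegral)

end Groth.Agent.Lib.Helper18.Curve
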