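import Groth.Agent.Lib.Helper18.Curve.Center
import Groth.Prelude.Def_SgaExt

/-! # Counting points with values in a finite extension of a finite field -/

set_option autoImplicit false
set_option linter.style.haveILetI false
set_option linter.unusedSectionVars false

universe u

open AlgebraicGeometry CategoryTheory TopologicalSpace

namespace Groth.Agent.Lib.Helper18.Curve

variable {k : Type u} [Field k] {X : Scheme.{u}} (f : X ⟶ Spec (CommRingCat.of k))

theorem fromSpecStalk_comp' (x : X) :
    X.fromSpecStalk x ≫ f = Spec.map (CommRingCat.ofHom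
      ((X.presheaf.germ ⊤ x trivial).hom.comp (Coh.toGlobal f))) := by
  refine (congrArg (fun g => X.fromSpecStalk x ≫ g) (eq_toSpecΓ_comp f)).trans ?_
  show X.fromSpecStalk x ≫ X.toSpecΓ ≫ _ = _
  rw [Scheme.fromSpecStalk_toSpecΓ_assoc, ← Spec.map_comp]
  rfl

theorem fromSpecResidueField_comp (x : X) :
    X.fromSpecResidueField x ≫ f = Spec.map (CommRingCat.ofHom (resMapF f x)) := by
  rw [Scheme.fromSpecResidueField, Category.assoc, fromSpecStalk_comp', ← Spec.map_comp]
  rfl

/-- The `k`-algebra structure on a residue field. -/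
noncomputable abbrev resAlg (x : X) : Algebra k (X.residueField x) := (resMapF f x).toAlgebra

/-- `k`-embeddings of the residue field at `x` into `k'`. -/
def ResHom (k' : Type u) [Field k'] [Algebra k k'] (x : X) : Type u :=
  {φ : X.residueField x →+* k' // ∀ c : k, φ (resMapF f x c) = algebraMap k k' c}

variable (k' : Type u) [Field k'] [Algebra k k']

/-- `ResHom` is the type of `k`-algebra maps. -/
noncomputable def resHomEquiv (x : X) :
    ResHom f k' x ≃ @AlgHom k (X.residueField x) k' _ _ _ (resAlg f x) _ :=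
  letI := resAlg f x
  { toFun := fun φ => { φ.1 with commutes' := φ.2 }
    invFun := fun ψ => ⟨ψ.toRingHom, ψ.commutes⟩
    left_inv := fun _ => rfl
    right_inv := fun _ => rfl }

theorem comp_eq_iff (g : Spec (CommRingCat.of k') ⟶ X) :
    g ≫ f = Spec.map (CommRingCat.ofHom (algebraMap k k')) ↔
      ∀ c : k, (Scheme.SpecToEquivOfField k' X g).2.hom (resMapF f _ c) = algebraMap k k' c := by
  have hg : g = Spec.map (Scheme.SpecToEquivOfField k' X g).2 ≫
      X.fromSpecResidueField (Scheme.SpecToEquivOfField k' X g).1 :=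
    ((Scheme.SpecToEquivOfField k' X).left_inv g).symm
  constructor
  · intro h c
    rw [hg, Category.assoc, fromSpecResidueField_comp, ← Spec.map_comp] at h
    have h2 := Spec.map_injective h
    exact congrArg (fun φ => φ.hom c) h2
  · intro h
    rw [hg, Category.assoc, fromSpecResidueField_comp, ← Spec.map_comp]
    congr 1
    ext c
    exact h c

/-- `k'`-points over `k` correspond to pairs of a point `x` and a `k`-embedding `κ(x) → k'`. -/
noncomputable def pointsEquiv :
    {g : Spec (CommRingCat.of k') ⟶ X //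
      g ≫ f = Spec.map (CommRingCat.ofHom (algebraMap k k'))} ≃ Σ x : X, ResHom f k' x :=
  (Equiv.subtypeEquiv (q := fun s : (Σ x : X, X.residueField x ⟶ CommRingCat.of k') =>
      ∀ c : k, s.2.hom (resMapF f s.1 c) = algebraMap k k' c)
    (Scheme.SpecToEquivOfField k' X) (fun g => comp_eq_iff f k' g)).trans
    { toFun := fun s => ⟨s.1.1, ⟨s.1.2.hom, s.2⟩⟩
      invFun := fun t => ⟨⟨t.1, CommRingCat.ofHom t.2.1⟩, t.2.2⟩
      left_inv := fun _ => rfl
      right_inv := fun _ => rfl }

/-- The residue degree of a point over `k`. -/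
noncomputable def resDeg (x : X) : ℕ :=
  @Module.finrank k (X.residueField x) _ _ (resAlg f x).toModule

theorem nonempty_resHom_iff [Finite k'] (x : X) :
    Nonempty (ResHom f k' x) ↔ resDeg f x ∣ Module.finrank k k' := by
  letI := resAlg f x
  rw [(resHomEquiv f k' x).nonempty_congr]
  exact FiniteField.nonempty_algHom_iff_finrank_dvd

theorem natCard_resHom [Finite k'] (x : X) (h : resDeg f x ∣ Module.finrank k k') :
    Nat.card (ResHom f k' x) = resDeg f x := by
  letI := resAlg f x
  rw [Nat.card_congr (resHomEquiv f k' x)]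
  exact FiniteField.natCard_algHom_of_finrank_dvd h

theorem finrank_pos_of_finite [Finite k'] : 0 < Module.finrank k k' := by
  haveI : Module.Finite k k' := Module.Finite.of_finite
  exact Module.finrank_pos

/-- The number of `k'`-points as a sum of residue degrees. -/
theorem pointCount_eq_sum [Finite k'] (I : Finset X)
    (hI : ∀ x, x ∈ I ↔ resDeg f x ∣ Module.finrank k k') :
    SgaExt.pointCount f k' = ∑ x ∈ I, resDeg f x := by
  classical
  unfold SgaExt.pointCount
  rw [Nat.card_congr (pointsEquiv f k')]
  let e : (Σ x : X, ResHom f k' x) ≃ Σ x : {x // x ∈ I}, ResHom f k' x.1 :=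
    { toFun := fun s => ⟨⟨s.1, (hI s.1).mpr ((nonempty_resHom_iff f k' s.1).mp ⟨s.2⟩)⟩, s.2⟩
      invFun := fun t => ⟨t.1.1, t.2⟩
      left_inv := fun _ => rfl
      right_inv := fun _ => rfl }
  rw [Nat.card_congr e]
  have hn := finrank_pos_of_finite (k := k) k'
  haveI : ∀ x : {x // x ∈ I}, Finite (ResHom f k' x.1) := fun x => by
    apply Nat.finite_of_card_ne_zero
    rw [natCard_resHom f k' x.1 ((hI x.1).mp x.2)]
    exact (Nat.pos_of_dvd_of_pos ((hI x.1).mp x.2) hn).ne'
  rw [Nat.card_sigma, ← Finset.sum_coe_sort I]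
  exact Finset.sum_congr rfl fun x _ => natCard_resHom f k' x.1 ((hI x.1).mp x.2)

end Groth.Agent.Lib.Helper18.Curve
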