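import Groth.Agent.Lib.Helper18.Curve.Bijection
import Groth.Agent.Lib.Helper18.Curve.Points
import Groth.Agent.Lib.Helper18.Zeta.PrimeDeg

/-! # The number of points of a curve over a finite field in terms of places -/

set_option autoImplicit false
set_option linter.style.haveILetI false
set_option linter.unusedSectionVars false

universe u

open AlgebraicGeometry CategoryTheory TopologicalSpace FunFld

namespace Groth.Agent.Lib.Helper18.Curve

open Groth.Agent.Lib.Helper18.FF Groth.Agent.Lib.Helper18.Zeta

variable {k : Type u} [Field k] {C : Scheme.{u}} [IsIntegral C]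
  (f : C ⟶ Spec (CommRingCat.of k)) [Smooth f] [IsProper f]
  (hdim : topologicalKrullDim C = 1)

/-- The closed point attached to a place. -/
noncomputable def pointOf (P : Place k (FF f)) : C := (exists_point_of_place f hdim P).choose

theorem pointOf_ne (P : Place k (FF f)) : pointOf f hdim P ≠ genericPoint C :=
  (exists_point_of_place f hdim P).choose_spec.1

theorem pointOf_spec (P : Place k (FF f)) (z : FF f) :
    P.1 z ≤ 1 ↔ z ∈ Ox f (pointOf f hdim P) :=
  (exists_point_of_place f hdim P).choose_spec.2 z

theorem pointOf_injective : Function.Injective (pointOf f hdim) := by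
  intro P Q h
  apply place_ext f
  intro z
  rw [pointOf_spec f hdim P z, pointOf_spec f hdim Q z, h]

theorem resDeg_pointOf (P : Place k (FF f)) : resDeg f (pointOf f hdim P) = P.deg :=
  finrank_residueField_eq_deg P _ (pointOf_spec f hdim P)

theorem exists_pointOf_eq (hK : IsFunctionField k (FF f)) {x : C} (hx : x ≠ genericPoint C) :
    ∃ P : Place k (FF f), pointOf f hdim P = x := by
  obtain ⟨P, hP⟩ := exists_place_of_point f hK hdim hx
  exact ⟨P, eq_of_place P (pointOf_spec f hdim P) hP⟩

omit [Smooth f] [IsProper f] in
/-- A point with finite residue field over `k` is not the generic point. -/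
theorem ne_generic_of_resDeg_pos (hK : IsFunctionField k (FF f)) {x : C}
    (h : 0 < resDeg f x) : x ≠ genericPoint C := by
  rintro rfl
  letI := resAlg f (genericPoint C)
  haveI : Module.Finite k (C.residueField (genericPoint C)) := Module.finite_of_finrank_pos h
  obtain ⟨t, ht, -⟩ := hK.1
  apply ht
  let ρ : FF f →ₐ[k] C.residueField (genericPoint C) :=
    { (C.residue (genericPoint C)).hom with
      commutes' := fun c => rfl }
  have halg : IsAlgebraic k (ρ t) := Algebra.IsAlgebraic.isAlgebraic _
  exact (isAlgebraic_algHom_iff ρ ρ.toRingHom.injective).mp halg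

variable [Finite k]

include hdim in
/-- The number of `k'`-points of a smooth proper curve is `N_n`, `n = [k' : k]`. -/
theorem pointCount_eq_NN (hK : IsFunctionField k (FF f)) (k' : Type u) [Field k'] [Algebra k k']
    [Finite k'] : SgaExt.pointCount f k' = NN hK (Module.finrank k k') := by
  classical
  set n := Module.finrank k k' with hn
  have hnpos : 0 < n := finrank_pos_of_finite (k := k) k'
  have hfin : {P : Place k (FF f) | P.deg ∣ n}.Finite :=
    (finite_places_deg_le hK n).subset fun P hP => Nat.le_of_dvd hnpos hP
  rw [NN_eq_sum hK n hnpos hfin.toFinset (fun P => by rw [Set.Finite.mem_toFinset]; rfl)]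
  rw [pointCount_eq_sum f k' (hfin.toFinset.image (pointOf f hdim)) (fun x => ?_)]
  · rw [Finset.sum_image (fun P _ Q _ h => pointOf_injective f hdim h)]
    exact Finset.sum_congr rfl fun P _ => resDeg_pointOf f hdim P
  · rw [Finset.mem_image]
    constructor
    · rintro ⟨P, hP, rfl⟩
      rw [resDeg_pointOf]
      exact hfin.mem_toFinset.mp hP
    · intro h
      have hx : x ≠ genericPoint C :=
        ne_generic_of_resDeg_pos f hK (Nat.pos_of_dvd_of_pos h hnpos)
      obtain ⟨P, rfl⟩ := exists_pointOf_eq f hdim hK hx
      refine ⟨P, ?_, rfl⟩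
      rw [Set.Finite.mem_toFinset]
      rw [resDeg_pointOf] at h
      exact h

end Groth.Agent.Lib.Helper18.Curve
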