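import Groth.Agent.Lib.Helper18.Curve.SES
import Groth.Agent.Lib.Helper18.Curve.Count
import Groth.Agent.Lib.Helper18.FF.Weil

/-! # `H¹(C, 𝒪_C)` of a smooth proper curve via repartitions: `H¹(𝒪) ≃ A / (A(0) + K)` -/

set_option autoImplicit false
set_option linter.style.haveILetI false
set_option linter.unusedSectionVars false

universe u

open AlgebraicGeometry CategoryTheory CategoryTheory.Limits TopologicalSpace Opposite FunFld

namespace Groth.Agent.Lib.Helper18.Curve

open Groth.Agent.Lib.Helper18.FF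

variable {k : Type u} [Field k] {C : Scheme.{u}} [IsIntegral C]
  (f : C ⟶ Spec (CommRingCat.of k))

theorem Ox_generic : Ox f (genericPoint C) = ⊤ := by
  have hfield : IsField (C.presheaf.stalk (genericPoint C)) :=
    Field.toIsField C.functionField
  have hsurj : Function.Surjective (algebraMap (C.presheaf.stalk (genericPoint C)) (FF f)) :=
    IsFractionRing.surjective_iff_isField.mpr hfield
  exact (RingHom.range_eq_top).mpr hsurj

theorem Tq_generic_eq_zero (t : Tq f (genericPoint C)) : t = 0 := by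
  obtain ⟨a, rfl⟩ := πq_surjective f _ t
  rw [πq_eq_zero_iff, Ox_generic]
  trivial

variable [Smooth f] [IsProper f] (hdim : topologicalKrullDim C = 1)
  (hK : IsFunctionField k (FF f))

/-- The place at a closed point. -/
noncomputable def placeAt {x : C} (hx : x ≠ genericPoint C) : Place k (FF f) :=
  (exists_pointOf_eq f hdim hK hx).choose

theorem pointOf_placeAt {x : C} (hx : x ≠ genericPoint C) :
    pointOf f hdim (placeAt f hdim hK hx) = x :=
  (exists_pointOf_eq f hdim hK hx).choose_spec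

theorem placeAt_pointOf (P : Place k (FF f)) :
    placeAt f hdim hK (pointOf_ne f hdim P) = P :=
  pointOf_injective f hdim (pointOf_placeAt f hdim hK _)

theorem placeAt_spec {x : C} (hx : x ≠ genericPoint C) (z : FF f) :
    (placeAt f hdim hK hx).1 z ≤ 1 ↔ z ∈ Ox f x := by
  have h := pointOf_spec f hdim (placeAt f hdim hK hx) z
  rw [pointOf_placeAt] at h
  exact h

open Classical in
/-- The family of classes in `K / 𝒪_x` attached to a repartition. -/
noncomputable def adeleFun (a : Place k (FF f) → FF f) (x : C) : Tq f x :=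
  if hx : x = genericPoint C then 0 else πq f x (a (placeAt f hdim hK hx))

theorem adeleFun_of_ne (a : Place k (FF f) → FF f) {x : C} (hx : x ≠ genericPoint C) :
    adeleFun f hdim hK a x = πq f x (a (placeAt f hdim hK hx)) := dif_neg hx

theorem adeleFun_locPred {a : Place k (FF f) → FF f} (ha : a ∈ adele k (FF f)) :
    (LocConst.locPred (FF f) (Tq f) (πq f)).pred
      (fun x : ((⊤ : Opens C.carrier) : Type u) => adeleFun f hdim hK a x.1) := by
  classical
  rw [LocConst.locPred_iff]
  intro x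
  set b : FF f := if hx : x.1 = genericPoint C then 0 else a (placeAt f hdim hK hx) with hb
  set S : Set (Place k (FF f)) := {P | ¬ P.1 (a P) ≤ 1} ∪ {P | ¬ P.1 b ≤ 1} with hS
  have hSfin : S.Finite := (mem_adele.mp ha).union (finite_poles' hK b)
  set G : Set C := {y | ∀ hy : y ≠ genericPoint C, a (placeAt f hdim hK hy) - b ∈ Ox f y} with hG
  have hGc : Gᶜ ⊆ pointOf f hdim '' S := by
    intro y hy
    rw [Set.mem_compl_iff, hG, Set.mem_setOf_eq, not_forall] at hy
    obtain ⟨hy, hmem⟩ := hy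
    refine ⟨placeAt f hdim hK hy, ?_, pointOf_placeAt f hdim hK hy⟩
    by_contra hnot
    rw [hS, Set.mem_union, not_or, Set.mem_setOf_eq, Set.mem_setOf_eq, not_not, not_not] at hnot
    apply hmem
    rw [← placeAt_spec f hdim hK hy]
    exact ((placeAt f hdim hK hy).1.map_sub _ _).trans (max_le hnot.1 hnot.2)
  have hGcfin : Gᶜ.Finite := (hSfin.image _).subset hGc
  have hne : ∀ y ∈ Gᶜ, y ≠ genericPoint C := by
    intro y hy
    obtain ⟨P, -, rfl⟩ := hGc hy
    exact pointOf_ne f hdim P
  have hclosed : IsClosed Gᶜ := by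
    have h1 : Gᶜ = ⋃ y ∈ Gᶜ, ({y} : Set C) := (Set.biUnion_of_singleton Gᶜ).symm
    rw [h1]
    exact hGcfin.isClosed_biUnion fun y hy => isClosed_singleton_of_ne_generic hdim (hne y hy)
  have hopen : IsOpen G := by
    rw [← isClosed_compl_iff]
    exact hclosed
  have hxG : x.1 ∈ G := by
    intro hy
    rw [hb, dif_neg hy, sub_self]
    exact Subring.zero_mem _
  refine ⟨⟨G, hopen⟩, hxG, homOfLE le_top, b, fun y => ?_⟩
  show adeleFun f hdim hK a y.1 = πq f y.1 b
  by_cases hy : y.1 = genericPoint C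
  · have h1 : ∀ (z : C) (hz : z = genericPoint C) (t₁ t₂ : Tq f z), t₁ = t₂ := by
      intro z hz t₁ t₂
      subst hz
      rw [Tq_generic_eq_zero f t₁, Tq_generic_eq_zero f t₂]
    exact h1 _ hy _ _
  · rw [adeleFun_of_ne f hdim hK a hy, πq_eq_iff]
    exact y.2 hy

/-- The map from repartitions to global sections of `𝒦/𝒪`. -/
noncomputable def Φ : adele k (FF f) →+ (sheafQ f).obj.obj (op ⊤) where
  toFun a := LocConst.mk (fun x => adeleFun f hdim hK a.1 x.1) (adeleFun_locPred f hdim hK a.2)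
  map_zero' := by
    apply Subtype.ext
    funext x
    show adeleFun f hdim hK (0 : Place k (FF f) → FF f) x.1 = 0
    unfold adeleFun
    split_ifs
    · rfl
    · exact map_zero _
  map_add' a b := by
    apply Subtype.ext
    funext x
    show adeleFun f hdim hK (a.1 + b.1) x.1 =
      adeleFun f hdim hK a.1 x.1 + adeleFun f hdim hK b.1 x.1
    unfold adeleFun
    split_ifs
    · exact (add_zero _).symm
    · exact map_add _ _ _

theorem Φ_val (a : adele k (FF f)) (x : ((⊤ : Opens C.carrier) : Type u)) :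
    (Φ f hdim hK a).1 x = adeleFun f hdim hK a.1 x.1 := rfl

theorem Φ_eq_zero_iff (a : adele k (FF f)) :
    Φ f hdim hK a = 0 ↔ a.1 ∈ AD (0 : Divisor k (FF f)) := by
  constructor
  · intro h P
    have h1 : adeleFun f hdim hK a.1 (pointOf f hdim P) = 0 :=
      congrArg (fun s => s.1 ⟨pointOf f hdim P, trivial⟩) h
    rw [adeleFun_of_ne f hdim hK a.1 (pointOf_ne f hdim P), πq_eq_zero_iff,
      placeAt_pointOf, ← pointOf_spec] at h1
    simpa using h1
  · intro h
    apply Subtype.ext
    funext x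
    show adeleFun f hdim hK a.1 x.1 = 0
    by_cases hx : x.1 = genericPoint C
    · exact dif_pos hx
    · rw [adeleFun_of_ne f hdim hK a.1 hx, πq_eq_zero_iff, ← placeAt_spec f hdim hK hx]
      simpa using h (placeAt f hdim hK hx)

theorem Φ_surjective : Function.Surjective (Φ f hdim hK) := by
  classical
  intro s
  have hloc : ∀ x : C, ∃ (V : Opens C.carrier) (_ : x ∈ V) (b : FF f),
      ∀ y : C, y ∈ V → s.1 ⟨y, trivial⟩ = πq f y b := by
    intro x
    obtain ⟨V, m, i, b, hb⟩ := s.2 ⟨x, trivial⟩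
    exact ⟨V, m, b, fun y hy => hb ⟨y, hy⟩⟩
  choose V hxV b hb using hloc
  haveI : CompactSpace C := QuasiCompact.compactSpace_of_compactSpace f
  obtain ⟨t, ht⟩ := isCompact_univ.elim_finite_subcover (fun x => (V x : Set C))
    (fun x => (V x).isOpen) (fun x _ => Set.mem_iUnion.2 ⟨x, hxV x⟩)
  have hidx : ∀ y : C, ∃ x ∈ t, y ∈ V x := by
    intro y
    have := ht (Set.mem_univ y)
    simpa using this
  choose idx hidxt hidxV using hidx
  let a : Place k (FF f) → FF f := fun P => b (idx (pointOf f hdim P))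
  have ha : a ∈ adele k (FF f) := by
    rw [mem_adele]
    have hfin : (⋃ x ∈ t, {P : Place k (FF f) | ¬ P.1 (b x) ≤ 1}).Finite :=
      Set.Finite.biUnion t.finite_toSet fun x _ => finite_poles' hK (b x)
    refine hfin.subset ?_
    intro P hP
    exact Set.mem_biUnion (hidxt (pointOf f hdim P)) hP
  refine ⟨⟨a, ha⟩, ?_⟩
  apply Subtype.ext
  funext y
  show adeleFun f hdim hK a y.1 = s.1 y
  by_cases hy : y.1 = genericPoint C
  · have h1 : ∀ (z : C) (hz : z = genericPoint C) (t₁ t₂ : Tq f z), t₁ = t₂ := by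
      intro z hz t₁ t₂
      subst hz
      rw [Tq_generic_eq_zero f t₁, Tq_generic_eq_zero f t₂]
    exact h1 _ hy _ _
  · rw [adeleFun_of_ne f hdim hK a hy]
    show πq f y.1 (b (idx (pointOf f hdim (placeAt f hdim hK hy)))) = s.1 y
    rw [pointOf_placeAt]
    exact (hb (idx y.1) y.1 (hidxV y.1)).symm

theorem Φ_diag (c : FF f) :
    Φ f hdim hK ⟨diag k (FF f) c, range_diag_le_adele hK ⟨c, rfl⟩⟩ =
      (ψ f).hom.app (op ⊤) (LocConst.const c ⊤) := by
  apply Subtype.ext
  funext y
  show adeleFun f hdim hK (diag k (FF f) c) y.1 = πq f y.1 c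
  by_cases hy : y.1 = genericPoint C
  · have h1 : ∀ (z : C) (hz : z = genericPoint C) (t₁ t₂ : Tq f z), t₁ = t₂ := by
      intro z hz t₁ t₂
      subst hz
      rw [Tq_generic_eq_zero f t₁, Tq_generic_eq_zero f t₂]
    exact h1 _ hy _ _
  · rw [adeleFun_of_ne f hdim hK _ hy]
    rfl

/-- The composite `A → Γ(𝒦/𝒪) → Γ(𝒦/𝒪) / K`. -/
noncomputable def Ψ : adele k (FF f) →+
    ((sheafQ f).obj.obj (op ⊤) ⧸ ((ψ f).hom.app (op ⊤)).hom.range) :=
  (QuotientAddGroup.mk' _).comp (Φ f hdim hK)

theorem Ψ_surjective : Function.Surjective (Ψ f hdim hK) :=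
  (QuotientAddGroup.mk'_surjective _).comp (Φ_surjective f hdim hK)

theorem Ψ_ker : (Ψ f hdim hK).ker = (ADK (0 : Divisor k (FF f))).toAddSubgroup := by
  ext a
  rw [AddMonoidHom.mem_ker]
  show (QuotientAddGroup.mk' _ (Φ f hdim hK a)) = 0 ↔ a ∈ ADK (0 : Divisor k (FF f))
  rw [QuotientAddGroup.mk'_apply, QuotientAddGroup.eq_zero_iff, AddMonoidHom.mem_range]
  show _ ↔ a.1 ∈ AD (0 : Divisor k (FF f)) ⊔ LinearMap.range (diag k (FF f))
  rw [Submodule.mem_sup]
  constructor
  · rintro ⟨t, ht⟩
    obtain ⟨c, hc⟩ := constSheaf_exists_const t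
      ⟨(inferInstance : Nonempty C).some, trivial⟩
    have ht' : t = LocConst.const c ⊤ := by
      apply Subtype.ext
      funext x
      exact hc x
    have hdiag := Φ_diag f hdim hK c
    rw [← ht', ht] at hdiag
    set d : adele k (FF f) := ⟨diag k (FF f) c, range_diag_le_adele hK ⟨c, rfl⟩⟩ with hd
    have hzero : Φ f hdim hK (a - d) = 0 := by rw [map_sub, hdiag, sub_self]
    rw [Φ_eq_zero_iff] at hzero
    refine ⟨(a - d).1, hzero, diag k (FF f) c, ⟨c, rfl⟩, ?_⟩
    show (a.1 - d.1) + d.1 = a.1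
    rw [sub_add_cancel]
  · rintro ⟨y, hy, _, ⟨c, rfl⟩, hsum⟩
    set d : adele k (FF f) := ⟨diag k (FF f) c, range_diag_le_adele hK ⟨c, rfl⟩⟩ with hd
    refine ⟨LocConst.const c ⊤, ?_⟩
    rw [← Φ_diag f hdim hK c]
    have hy' : a - d = ⟨y, AD_le_adele _ hy⟩ := by
      apply Subtype.ext
      show a.1 - d.1 = y
      rw [← hsum]
      show y + diag k (FF f) c - diag k (FF f) c = y
      rw [add_sub_cancel_right]
    have hzero : Φ f hdim hK (a - d) = 0 := by
      rw [Φ_eq_zero_iff, hy']
      exact hy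
    rw [map_sub, sub_eq_zero] at hzero
    exact hzero.symm

include hdim hK in
/-- `#H¹(C, 𝒪_C) = q^g` for a smooth proper curve over a finite field, `g` the genus of the function
field. -/
theorem natCard_H1 [Finite k] :
    Nat.card (Coh.HH C (Coh.structureModule C) 1) = Nat.card k ^ genus k (FF f) := by
  obtain ⟨e⟩ := nonempty_H1_structure_equiv f
  have e2 := QuotientAddGroup.quotientKerEquivOfSurjective (Ψ f hdim hK) (Ψ_surjective f hdim hK)
  rw [Nat.card_congr e.toEquiv, ← Nat.card_congr e2.toEquiv, Ψ_ker]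
  obtain ⟨hfin, hrk⟩ := finrank_adele_quot hK (0 : Divisor k (FF f))
  rw [delta_zero hK, sub_zero] at hrk
  haveI := hfin
  have h1 := Module.natCard_eq_pow_finrank (K := k)
    (V := ↥(adele k (FF f)) ⧸ ADK (0 : Divisor k (FF f)))
  rw [Nat.cast_inj.mp hrk] at h1
  exact h1

end Groth.Agent.Lib.Helper18.Curve
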