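import Groth.Agent.Lib.Helper18.Curve.Places

/-! # Closed points ↔ places: uniqueness of the centre and residue degrees -/

set_option autoImplicit false
set_option linter.style.haveILetI false
set_option linter.unusedSectionVars false

universe u

open AlgebraicGeometry CategoryTheory TopologicalSpace FunFld

namespace Groth.Agent.Lib.Helper18.Curve

open Groth.Agent.Lib.Helper18.FF

variable {k : Type u} [Field k] {C : Scheme.{u}} [IsIntegral C]
  (f : C ⟶ Spec (CommRingCat.of k))

theorem fromSpecStalk_comp (x : C) :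
    C.fromSpecStalk x ≫ f = Spec.map (CommRingCat.ofHom
      ((C.presheaf.germ ⊤ x trivial).hom.comp (Coh.toGlobal f))) := by
  refine (congrArg (fun g => C.fromSpecStalk x ≫ g) (eq_toSpecΓ_comp f)).trans ?_
  show C.fromSpecStalk x ≫ C.toSpecΓ ≫ _ = _
  rw [Scheme.fromSpecStalk_toSpecΓ_assoc, ← Spec.map_comp]
  rfl

variable {f}

/-- The ring map `𝒪_x → 𝒪_P` when `𝒪_x ⊆ 𝒪_P`. -/
noncomputable def toPO (P : Place k (FF f)) (x : C) (h : ∀ z ∈ Ox f x, P.1 z ≤ 1) :
    C.presheaf.stalk x →+* P.O :=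
  (algebraMap (C.presheaf.stalk x) (FF f)).codRestrict P.O (fun a => h _ ⟨a, rfl⟩)

theorem coe_toPO (P : Place k (FF f)) (x : C) (h : ∀ z ∈ Ox f x, P.1 z ≤ 1)
    (a : C.presheaf.stalk x) :
    ((toPO P x h a : P.O) : FF f) = algebraMap (C.presheaf.stalk x) (FF f) a := rfl

theorem toPO_bijective (P : Place k (FF f)) (x : C) (h : ∀ z, P.1 z ≤ 1 ↔ z ∈ Ox f x) :
    Function.Bijective (toPO P x (fun z hz => (h z).mpr hz)) := by
  constructor
  · intro a b hab
    apply IsFractionRing.injective (C.presheaf.stalk x) (FF f)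
    exact congrArg Subtype.val hab
  · rintro ⟨z, hz⟩
    obtain ⟨a, ha⟩ := (h z).mp hz
    exact ⟨a, Subtype.ext ha⟩

theorem toPO_isLocalHom (P : Place k (FF f)) (x : C) (h : ∀ z, P.1 z ≤ 1 ↔ z ∈ Ox f x) :
    IsLocalHom (toPO P x (fun z hz => (h z).mpr hz)) := by
  constructor
  intro a ha
  obtain ⟨b, hb⟩ := (toPO_bijective P x h).2 (ha.unit⁻¹ : (P.O)ˣ)
  refine IsUnit.of_mul_eq_one b ?_
  apply (toPO_bijective P x h).1
  rw [map_mul, map_one, hb]
  exact ha.mul_val_inv

/-- The morphism `Spec 𝒪_P ⟶ C` attached to a point whose local ring is `𝒪_P`. -/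
theorem lift_of_point (P : Place k (FF f)) (x : C) (h : ∀ z, P.1 z ≤ 1 ↔ z ∈ Ox f x) :
    ∃ l : Spec (CommRingCat.of P.O) ⟶ C,
      Spec.map (CommRingCat.ofHom (algebraMap P.O (FF f))) ≫ l = genericMap f ∧
      l ≫ f = Spec.map (CommRingCat.ofHom (algebraMap k P.O)) ∧
      l (IsLocalRing.closedPoint P.O) = x := by
  set φ := toPO P x (fun z hz => (h z).mpr hz) with hφ
  haveI : IsLocalHom φ := toPO_isLocalHom P x h
  refine ⟨Spec.map (CommRingCat.ofHom φ) ≫ C.fromSpecStalk x, ?_, ?_, ?_⟩
  · have hspec : genericPoint C ⤳ x := (genericPoint_spec C).specializes trivial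
    rw [← Category.assoc, ← Spec.map_comp]
    have h1 : CommRingCat.ofHom φ ≫ CommRingCat.ofHom (algebraMap P.O (FF f)) =
        C.presheaf.stalkSpecializes hspec := by
      ext a
      rfl
    rw [h1]
    exact Scheme.SpecMap_stalkSpecializes_fromSpecStalk hspec
  · rw [Category.assoc, fromSpecStalk_comp, ← Spec.map_comp]
    congr 1
    ext c
    exact congrArg Subtype.val (center_algebraMap φ (fun a => coe_toPO P x _ a) c)
  · rw [Scheme.Hom.comp_apply]
    have : Spec.map (CommRingCat.ofHom φ) (IsLocalRing.closedPoint P.O) =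
        IsLocalRing.closedPoint (C.presheaf.stalk x) := IsLocalRing.comap_closedPoint φ
    rw [this, Scheme.fromSpecStalk_closedPoint]

/-- A place is the place of at most one point. -/
theorem eq_of_place [IsSeparated f] (P : Place k (FF f)) {x y : C}
    (hx : ∀ z, P.1 z ≤ 1 ↔ z ∈ Ox f x) (hy : ∀ z, P.1 z ≤ 1 ↔ z ∈ Ox f y) : x = y := by
  obtain ⟨l₁, h11, h12, h13⟩ := lift_of_point P x hx
  obtain ⟨l₂, h21, h22, h23⟩ := lift_of_point P y hy
  let S : ValuativeCommSq f :=
    { R := P.O
      K := FF f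
      i₁ := genericMap f
      i₂ := Spec.map (CommRingCat.ofHom (algebraMap k P.O))
      commSq := ⟨by rw [genericMap_comp, ← Spec.map_comp]; rfl⟩ }
  have huniq : Subsingleton S.commSq.LiftStruct := IsSeparated.valuativeCriterion f S
  let L₁ : S.commSq.LiftStruct := ⟨l₁, h11, h12⟩
  let L₂ : S.commSq.LiftStruct := ⟨l₂, h21, h22⟩
  have hL : L₁ = L₂ := Subsingleton.elim _ _
  have hl : l₁ = l₂ := congrArg CommSq.LiftStruct.l hL
  rw [← h13, ← h23, hl]

/-- The residue degree of a point equals the degree of its place. -/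
theorem finrank_residueField_eq_deg (P : Place k (FF f)) (x : C)
    (h : ∀ z, P.1 z ≤ 1 ↔ z ∈ Ox f x) :
    @Module.finrank k (C.residueField x) _ _ (resMapF f x).toAlgebra.toModule = P.deg := by
  set φ := toPO P x (fun z hz => (h z).mpr hz) with hφ
  haveI : IsLocalHom φ := toPO_isLocalHom P x h
  let e : C.presheaf.stalk x ≃+* P.O := RingEquiv.ofBijective φ (toPO_bijective P x h)
  let ē : IsLocalRing.ResidueField (C.presheaf.stalk x) ≃+* IsLocalRing.ResidueField P.O :=
    IsLocalRing.ResidueField.mapEquiv e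
  letI := (resMapF f x).toAlgebra
  let E : C.residueField x ≃ₐ[k] IsLocalRing.ResidueField P.O :=
    { ē with
      commutes' := fun c => by
        show ē (IsLocalRing.residue _ ((C.presheaf.germ ⊤ x trivial).hom (Coh.toGlobal f c))) =
          IsLocalRing.residue P.O (algebraMap k P.O c)
        have h1 : ē (IsLocalRing.residue _ ((C.presheaf.germ ⊤ x trivial).hom (Coh.toGlobal f c))) =
            IsLocalRing.residue P.O (e ((C.presheaf.germ ⊤ x trivial).hom (Coh.toGlobal f c))) := rfl
        rw [h1]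
        congr 1
        exact center_algebraMap φ (fun a => coe_toPO P x _ a) c }
  exact E.toLinearEquiv.finrank_eq

end Groth.Agent.Lib.Helper18.Curve
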