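import Groth.Agent.Lib.Helper18.Curve.Basic

/-! # The centre of a place of the function field on a proper curve -/

set_option autoImplicit false
set_option linter.style.haveILetI false
set_option linter.unusedSectionVars false

universe u

open AlgebraicGeometry CategoryTheory TopologicalSpace FunFld

namespace Groth.Agent.Lib.Helper18.Curve

variable {k : Type u} [Field k] {C : Scheme.{u}} [IsIntegral C]
  (f : C ⟶ Spec (CommRingCat.of k))

/-- The ring map from the base field to the residue field at a point. -/
noncomputable def resMapF (x : C) : k →+* C.residueField x :=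
  (C.residue x).hom.comp ((C.presheaf.germ ⊤ x trivial).hom.comp (Coh.toGlobal f))

theorem algebraMap_stalk_germ_top (x : C) (c : k) :
    algebraMap (C.presheaf.stalk x) (FF f) ((C.presheaf.germ ⊤ x trivial).hom (Coh.toGlobal f c)) =
      algebraMap k (FF f) c :=
  Scheme.algebraMap_germ_eq_germToFunctionField C (U := ⊤) (x := x) trivial (Coh.toGlobal f c)

/-- The centre of a place on a universally closed integral `k`-scheme. -/
theorem exists_center [UniversallyClosed f] (P : Place k (FF f)) :
    ∃ (x : C) (φ : C.presheaf.stalk x →+* P.O), IsLocalHom φ ∧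
      ∀ a, ((φ a : P.O) : FF f) = algebraMap (C.presheaf.stalk x) (FF f) a := by
  have hval : ValuativeCriterion.Existence f := by
    have h : (ValuativeCriterion.Existence ⊓ @QuasiCompact) f := by
      rw [← UniversallyClosed.eq_valuativeCriterion]; infer_instance
    exact h.1
  let S : ValuativeCommSq f :=
    { R := P.O
      K := FF f
      i₁ := genericMap f
      i₂ := Spec.map (CommRingCat.ofHom (algebraMap k P.O))
      commSq := ⟨by rw [genericMap_comp, ← Spec.map_comp]; rfl⟩ }
  obtain ⟨l, hl₁, hl₂⟩ := (hval S).exists_lift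
  have hspec : genericPoint C ⤳ l (IsLocalRing.closedPoint P.O) :=
    (genericPoint_spec C).specializes trivial
  refine ⟨l (IsLocalRing.closedPoint P.O), (Scheme.stalkClosedPointTo l).hom, inferInstance, ?_⟩
  have h1 : (Spec.map (CommRingCat.ofHom (algebraMap P.O (FF f))) ≫
      Spec.map (Scheme.stalkClosedPointTo l)) ≫ C.fromSpecStalk _ =
      Spec.map (C.presheaf.stalkSpecializes hspec) ≫ C.fromSpecStalk _ := by
    rw [Category.assoc, Scheme.Spec_stalkClosedPointTo_fromSpecStalk,
      Scheme.SpecMap_stalkSpecializes_fromSpecStalk]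
    exact hl₁
  have h1' := (cancel_mono (C.fromSpecStalk (l (IsLocalRing.closedPoint P.O)))).mp h1
  rw [← Spec.map_comp] at h1'
  have h2 := Spec.map_injective h1'
  intro a
  have h3 := congrArg (fun g => g.hom a) h2
  exact h3

variable {f}

/-- A local ring map `𝒪_x → 𝒪_P` compatible with the inclusions into `K` is `k`-linear. -/
theorem center_algebraMap {P : Place k (FF f)} {x : C} (φ : C.presheaf.stalk x →+* P.O)
    (hφ : ∀ a, ((φ a : P.O) : FF f) = algebraMap (C.presheaf.stalk x) (FF f) a) (c : k) :
    φ ((C.presheaf.germ ⊤ x trivial).hom (Coh.toGlobal f c)) = algebraMap k P.O c := by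
  apply Subtype.ext
  rw [hφ, algebraMap_stalk_germ_top]
  rfl

/-- The centre is not the generic point. -/
theorem center_ne_generic {P : Place k (FF f)} {x : C} (φ : C.presheaf.stalk x →+* P.O)
    (hφ : ∀ a, ((φ a : P.O) : FF f) = algebraMap (C.presheaf.stalk x) (FF f) a) :
    x ≠ genericPoint C := by
  intro hx
  -- the stalk at `x` is a field
  have hfld : IsField (C.presheaf.stalk x) := by
    rw [hx]
    exact (inferInstance : Field C.functionField).toIsField
  obtain ⟨z, hz⟩ := P.2.2 (WithZero.exp 1)
  obtain ⟨a, b, hb, rfl⟩ := IsFractionRing.div_surjective (A := C.presheaf.stalk x) z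
  have hb0 : b ≠ 0 := nonZeroDivisors.ne_zero hb
  obtain ⟨b', hb'⟩ := hfld.mul_inv_cancel hb0
  have hz' : algebraMap (C.presheaf.stalk x) (FF f) a / algebraMap (C.presheaf.stalk x) (FF f) b =
      algebraMap (C.presheaf.stalk x) (FF f) (a * b') := by
    have hb1 : algebraMap (C.presheaf.stalk x) (FF f) b ≠ 0 := by
      rw [Ne, map_eq_zero_iff _ (IsFractionRing.injective (C.presheaf.stalk x) (FF f))]
      exact hb0
    rw [div_eq_iff hb1, ← map_mul, mul_assoc, mul_comm b' b, hb', mul_one]
  rw [hz', ← hφ] at hz
  have hle : P.1 ((φ (a * b') : P.O) : FF f) ≤ 1 := (φ (a * b')).2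
  rw [hz] at hle
  exact absurd hle (by rw [not_le, ← WithZero.exp_zero, WithZero.exp_lt_exp]; exact zero_lt_one)

theorem finrank_dvd_of_ringHom {k A B : Type*} [Field k] [Field A] [Field B] [Algebra k A]
    [Algebra k B] (ψ : A →+* B) (h : ∀ c, ψ (algebraMap k A c) = algebraMap k B c) :
    Module.finrank k A ∣ Module.finrank k B := by
  letI : Algebra A B := ψ.toAlgebra
  haveI : IsScalarTower k A B := IsScalarTower.of_algebraMap_eq fun c => (h c).symm
  exact Dvd.intro _ (Module.finrank_mul_finrank k A B)

/-- The residue degree of the centre divides the degree of the place. -/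
theorem finrank_center_dvd {P : Place k (FF f)} {x : C} (φ : C.presheaf.stalk x →+* P.O)
    [IsLocalHom φ]
    (hφ : ∀ a, ((φ a : P.O) : FF f) = algebraMap (C.presheaf.stalk x) (FF f) a) :
    @Module.finrank k (C.residueField x) _ _ (resMapF f x).toAlgebra.toModule ∣ P.deg := by
  refine @finrank_dvd_of_ringHom k (C.residueField x) (IsLocalRing.ResidueField P.O) _ _ _
    (resMapF f x).toAlgebra (Place.algRes P) (IsLocalRing.ResidueField.map φ) fun c => ?_
  show IsLocalRing.ResidueField.map φ (IsLocalRing.residue _
        ((C.presheaf.germ ⊤ x trivial).hom (Coh.toGlobal f c))) =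
      IsLocalRing.residue P.O (algebraMap k P.O c)
  rw [IsLocalRing.ResidueField.map_residue, center_algebraMap φ hφ]

end Groth.Agent.Lib.Helper18.Curve
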