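import Groth.Agent.Lib.Helper18.Curve.Basic
import Groth.Agent.Lib.Helper29.IntegralDim

/-! # The function field of a curve is finite over a rational function field -/

set_option autoImplicit false
set_option linter.style.haveILetI false
set_option linter.unusedSectionVars false

universe u

open AlgebraicGeometry CategoryTheory TopologicalSpace IntermediateField

namespace Groth.Agent.Lib.Helper18.Curve

theorem exists_transcendental_finite {k R K : Type*} [Field k] [CommRing R] [Algebra k R]
    [Algebra.FiniteType k R] [Field K] [Algebra k K] [Algebra R K] [IsScalarTower k R K]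
    [IsFractionRing R K]
    (g : MvPolynomial (Fin 1) k →ₐ[k] R) (hinj : Function.Injective g) (hfin : g.Finite) :
    ∃ t : K, Transcendental k t ∧
      FiniteDimensional (IntermediateField.adjoin k ({t} : Set K)) K := by
  classical
  let t : K := algebraMap R K (g (MvPolynomial.X 0))
  refine ⟨t, ?_, ?_⟩
  · have h1 : Transcendental k (g (MvPolynomial.X 0)) := by
      rw [Transcendental, isAlgebraic_algHom_iff g hinj]
      exact MvPolynomial.transcendental_X k 0
    exact (transcendental_algebraMap_iff (IsFractionRing.injective R K)).mpr h1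
  · obtain ⟨S, hS⟩ := Algebra.FiniteType.out (R := k) (A := R)
    set E := IntermediateField.adjoin k ({t} : Set K) with hE
    let T : Set K := (algebraMap R K) '' (S : Set R)
    have hTfin : Finite T := (S.finite_toSet.image _).to_subtype
    let tE : E := ⟨t, mem_adjoin_simple_self k t⟩
    let φ : MvPolynomial (Fin 1) k →+* E := (MvPolynomial.aeval (fun _ => tE)).toRingHom
    letI : Algebra (MvPolynomial (Fin 1) k) R := g.toRingHom.toAlgebra
    have hint : ∀ a : R, IsIntegral (MvPolynomial (Fin 1) k) a := fun a =>
      (RingHom.Finite.to_isIntegral hfin) a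
    have hcomp : (algebraMap E K).comp φ =
        (algebraMap R K).comp (algebraMap (MvPolynomial (Fin 1) k) R) := by
      apply MvPolynomial.ringHom_ext
      · intro c
        show algebraMap E K (MvPolynomial.aeval (fun _ => tE) (MvPolynomial.C c)) =
          algebraMap R K (g (MvPolynomial.C c))
        rw [MvPolynomial.aeval_C, ← MvPolynomial.algebraMap_eq, AlgHom.commutes,
          ← IsScalarTower.algebraMap_apply, ← IsScalarTower.algebraMap_apply]
      · intro i
        show algebraMap E K (MvPolynomial.aeval (fun _ => tE) (MvPolynomial.X i)) =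
          algebraMap R K (g (MvPolynomial.X i))
        rw [MvPolynomial.aeval_X, Fin.eq_zero i]
        rfl
    have hT : ∀ z ∈ T, IsIntegral E z := by
      rintro z ⟨a, -, rfl⟩
      exact IsIntegral.map_of_comp_eq φ (algebraMap R K) hcomp (hint a)
    have hfd : FiniteDimensional E (IntermediateField.adjoin E T) :=
      IntermediateField.finiteDimensional_adjoin hT
    have hR : ∀ a : R, algebraMap R K a ∈ IntermediateField.adjoin E T := by
      intro a
      have ha : a ∈ Algebra.adjoin k (S : Set R) := by rw [hS]; trivial
      induction ha using Algebra.adjoin_induction with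
      | mem x hx => exact IntermediateField.subset_adjoin E T ⟨x, hx, rfl⟩
      | algebraMap c =>
        rw [← IsScalarTower.algebraMap_apply, IsScalarTower.algebraMap_apply k E K]
        exact (IntermediateField.adjoin E T).algebraMap_mem _
      | add x y _ _ hx hy => rw [map_add]; exact add_mem hx hy
      | mul x y _ _ hx hy => rw [map_mul]; exact mul_mem hx hy
    have htop : IntermediateField.adjoin E T = ⊤ := by
      rw [eq_top_iff]
      intro z _
      obtain ⟨a, b, -, rfl⟩ := IsFractionRing.div_surjective (A := R) z
      exact div_mem (hR a) (hR b)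
    rw [htop] at hfd
    exact (IntermediateField.topEquiv (F := E) (E := K)).toLinearEquiv.finiteDimensional

variable {k : Type u} [Field k] {C : Scheme.{u}} [IsIntegral C]
  (f : C ⟶ Spec (CommRingCat.of k))

/-- An affine chart around a closed point of a curve. -/
theorem exists_chart (hdim : topologicalKrullDim C = 1) :
    ∃ (U : C.Opens) (_ : IsAffineOpen U) (x₀ : C), x₀ ∈ U ∧ x₀ ≠ genericPoint C := by
  obtain ⟨x₀, hx₀⟩ := exists_ne_generic (X := C) (by rw [hdim]; exact zero_lt_one)
    (genericPoint C)
  obtain ⟨U, hU, hxU, -⟩ := exists_isAffineOpen_mem_and_subset (x := x₀) (U := ⊤) trivial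
  exact ⟨U, hU, x₀, hxU, hx₀⟩

theorem exists_transcendental [LocallyOfFiniteType f] (hdim : topologicalKrullDim C = 1) :
    ∃ t : FF f, Transcendental k t ∧
      FiniteDimensional (IntermediateField.adjoin k ({t} : Set (FF f))) (FF f) := by
  classical
  obtain ⟨U, hU, x₀, hxU, hx₀⟩ := exists_chart (C := C) hdim
  haveI : Nonempty U := ⟨⟨x₀, hxU⟩⟩
  letI : Algebra k Γ(C, U) := (kToΓ f U).toAlgebra
  haveI : Algebra.FiniteType k Γ(C, U) := finiteType_kToΓ f hU
  haveI : IsFractionRing Γ(C, U) (FF f) := functionField_isFractionRing_of_isAffineOpen C U hU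
  haveI : IsScalarTower k Γ(C, U) (FF f) := IsScalarTower.of_algebraMap_eq fun c =>
    (germ_kToΓ f U c).symm
  obtain ⟨s, g, hinj, hfin⟩ := exists_finite_inj_algHom_of_fg k Γ(C, U)
  have hs : s = 1 := by
    letI : Algebra (MvPolynomial (Fin s) k) Γ(C, U) := g.toRingHom.toAlgebra
    haveI : Module.Finite (MvPolynomial (Fin s) k) Γ(C, U) := hfin
    haveI : Algebra.IsIntegral (MvPolynomial (Fin s) k) Γ(C, U) := inferInstance
    have hinj' : Function.Injective (algebraMap (MvPolynomial (Fin s) k) Γ(C, U)) := hinj
    have hs1 : s ≤ 1 := by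
      have h1 := Groth.Agent.Lib.Helper29.ringKrullDim_le_of_isIntegral_of_injective
        (A := MvPolynomial (Fin s) k) (A' := Γ(C, U)) hinj'
      rw [MvPolynomial.ringKrullDim_of_isNoetherianRing, ringKrullDim_eq_zero_of_field, zero_add,
        Nat.card_fin] at h1
      have h2 : ((s : ℕ) : WithBot ℕ∞) ≤ 1 := h1.trans (ringKrullDim_Γ_le hU hdim)
      exact_mod_cast h2
    have hs0 : s ≠ 0 := by
      rintro rfl
      have hfld : IsField (MvPolynomial (Fin 0) k) :=
        (MvPolynomial.isEmptyAlgEquiv k (Fin 0)).toRingEquiv.toMulEquiv.isField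
          (Field.toIsField k)
      have hR : IsField Γ(C, U) := isField_of_isIntegral_of_isField' hfld
      have hbot : (hU.primeIdealOf ⟨x₀, hxU⟩).asIdeal = ⊥ := by
        letI := hR.toField
        exact (Ideal.eq_bot_or_top _).resolve_right (hU.primeIdealOf ⟨x₀, hxU⟩).isPrime.ne_top
      have hgen : genericPoint C ∈ U :=
        ((genericPoint_spec C).mem_open_set_iff U.isOpen).mpr ⟨x₀, trivial, hxU⟩
      have h1 : hU.primeIdealOf ⟨x₀, hxU⟩ = hU.primeIdealOf ⟨genericPoint C, hgen⟩ := by
        rw [hU.primeIdealOf_genericPoint, genericPoint_eq_bot_of_affine]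
        exact PrimeSpectrum.ext hbot
      have h2 := congrArg hU.fromSpec h1
      rw [hU.fromSpec_primeIdealOf, hU.fromSpec_primeIdealOf] at h2
      exact hx₀ h2
    omega
  subst hs
  exact exists_transcendental_finite g hinj hfin

end Groth.Agent.Lib.Helper18.Curve
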