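import Groth.Agent.Lib.Helper18.Curve.Finite
import Groth.Agent.Lib.Helper18.Curve.GeomIrr
import Groth.Agent.Lib.Helper18.Curve.Center

/-! # The function field of a geometrically irreducible curve is a function field of one
variable -/

set_option autoImplicit false

universe u

open AlgebraicGeometry CategoryTheory TopologicalSpace FunFld

namespace Groth.Agent.Lib.Helper18.Curve

variable {k : Type u} [Field k] {C : Scheme.{u}} [IsIntegral C]
  (f : C ⟶ Spec (CommRingCat.of k))

theorem isFunctionField [LocallyOfFiniteType f] [PerfectField k] [GeometricallyIrreducible f]
    (hdim : topologicalKrullDim C = 1) : IsFunctionField k (FF f) :=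
  ⟨exists_transcendental f hdim, mem_range_of_isAlgebraic f⟩

/-- Every place of the function field of a proper curve has a centre: a closed point whose residue
degree divides the degree of the place. -/
theorem exists_closedPoint_dvd [UniversallyClosed f] (hdim : topologicalKrullDim C = 1)
    (P : Place k (FF f)) :
    ∃ x : C, IsClosed ({x} : Set C) ∧
      @Module.finrank k (C.residueField x) _ _ (resMapF f x).toAlgebra.toModule ∣ P.deg := by
  obtain ⟨x, φ, hloc, hφ⟩ := exists_center f P
  exact ⟨x, isClosed_singleton_of_ne_generic hdim (center_ne_generic φ hφ),
    finrank_center_dvd φ hφ⟩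

end Groth.Agent.Lib.Helper18.Curve
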