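import Groth.Agent.Lib.Helper18.Curve.SheafLemmas

/-! # Sheaves of functions which are locally the image of a constant -/

set_option autoImplicit false
set_option linter.unusedSectionVars false

universe u

open CategoryTheory CategoryTheory.Limits TopologicalSpace Opposite

namespace Groth.Agent.Lib.Helper18.Curve

namespace LocConst

variable {X : TopCat.{u}} (K : Type u) [AddCommGroup K] (T : X → Type u)
  [∀ x, AddCommGroup (T x)] (π : ∀ x, K →+ T x)

/-- The prelocal predicate "is the image of a constant". -/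
def constPred : TopCat.PrelocalPredicate T where
  pred {U} s := ∃ a : K, ∀ x : U, s x = π x a
  res := fun i _ ⟨a, ha⟩ => ⟨a, fun x => ha (i x)⟩

/-- The local predicate "is locally the image of a constant". -/
def locPred : TopCat.LocalPredicate T := (constPred K T π).sheafify

theorem locPred_iff {U : Opens X} (s : ∀ x : U, T x) :
    (locPred K T π).pred s ↔ ∀ x : U, ∃ (V : Opens X) (_ : x.1 ∈ V) (i : V ⟶ U) (a : K),
      ∀ y : V, s (i y) = π y a := Iff.rfl

/-- The sections over `U`, as a subgroup of all functions. -/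
def sectionsSubgroup (U : Opens X) : AddSubgroup (∀ x : U, T x) where
  carrier := {s | (locPred K T π).pred s}
  zero_mem' := fun x => ⟨U, x.2, 𝟙 _, 0, fun y => (map_zero _).symm⟩
  add_mem' := by
    intro s t hs ht x
    obtain ⟨V₁, m₁, i₁, a₁, h₁⟩ := hs x
    obtain ⟨V₂, m₂, i₂, a₂, h₂⟩ := ht x
    refine ⟨V₁ ⊓ V₂, ⟨m₁, m₂⟩, Opens.infLELeft _ _ ≫ i₁, a₁ + a₂, fun y => ?_⟩
    have e₁ := h₁ ⟨y.1, y.2.1⟩
    have e₂ := h₂ ⟨y.1, y.2.2⟩
    rw [map_add]
    exact congrArg₂ (· + ·) e₁ e₂
  neg_mem' := by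
    intro s hs x
    obtain ⟨V₁, m₁, i₁, a₁, h₁⟩ := hs x
    refine ⟨V₁, m₁, i₁, -a₁, fun y => ?_⟩
    rw [map_neg]
    exact congrArg Neg.neg (h₁ y)

instance (U : (Opens X)ᵒᵖ) :
    AddCommGroup ((TopCat.subsheafToTypes (locPred K T π)).1.obj U) :=
  inferInstanceAs (AddCommGroup (sectionsSubgroup K T π U.unop))

/-- The presheaf of abelian groups. -/
def presheaf : TopCat.Presheaf AddCommGrpCat.{u} X where
  obj U := AddCommGrpCat.of ((TopCat.subsheafToTypes (locPred K T π)).1.obj U)
  map i := AddCommGrpCat.ofHom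
    { toFun := (TopCat.subsheafToTypes (locPred K T π)).1.map i
      map_zero' := rfl
      map_add' := fun _ _ => rfl }

/-- The sheaf of functions which are locally the image of a constant of `K`. -/
def sheaf : CohTop.Ab X :=
  ⟨presheaf K T π, (TopCat.Presheaf.isSheaf_iff_isSheaf_comp (forget AddCommGrpCat) _).2
    (TopCat.subsheafToTypes (locPred K T π)).2⟩

variable {K T π}

/-- Constructor for sections. -/
def mk {U : Opens X} (s : ∀ x : U, T x) (h : (locPred K T π).pred s) :
    (sheaf K T π).obj.obj (op U) := ⟨s, h⟩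

theorem mk_val {U : Opens X} (s : ∀ x : U, T x) (h : (locPred K T π).pred s) :
    (mk s h : (sheaf K T π).obj.obj (op U)).1 = s := rfl

theorem ext_val {U : Opens X} {s t : (sheaf K T π).obj.obj (op U)} (h : s.1 = t.1) : s = t :=
  Subtype.ext h

theorem zero_val {U : Opens X} : (0 : (sheaf K T π).obj.obj (op U)).1 = 0 := rfl

theorem add_val {U : Opens X} (s t : (sheaf K T π).obj.obj (op U)) : (s + t).1 = s.1 + t.1 := rfl

theorem neg_val {U : Opens X} (s : (sheaf K T π).obj.obj (op U)) : (-s).1 = -s.1 := rfl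

theorem sub_val {U : Opens X} (s t : (sheaf K T π).obj.obj (op U)) : (s - t).1 = s.1 - t.1 := rfl

theorem map_val {U V : Opens X} (i : V ⟶ U) (s : (sheaf K T π).obj.obj (op U)) (x : V) :
    ((sheaf K T π).obj.map i.op s).1 x = s.1 (i x) := rfl

/-- The image of a constant is a section. -/
def const (a : K) (U : Opens X) : (sheaf K T π).obj.obj (op U) :=
  mk (fun x => π x a) (fun x => ⟨U, x.2, 𝟙 _, a, fun _ => rfl⟩)

theorem const_val (a : K) (U : Opens X) (x : U) :
    (const a U : (sheaf K T π).obj.obj (op U)).1 x = π x a := rfl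

variable {T' : X → Type u} [∀ x, AddCommGroup (T' x)] {π' : ∀ x, K →+ T' x}

/-- The morphism of sheaves induced by a compatible family of maps of fibres. -/
def mapHom (ρ : ∀ x, T x →+ T' x) (h : ∀ x a, ρ x (π x a) = π' x a) :
    sheaf K T π ⟶ sheaf K T' π' :=
  ⟨{ app := fun U => AddCommGrpCat.ofHom
      { toFun := fun s => ⟨fun x => ρ x (s.1 x), fun x => by
          obtain ⟨V, m, i, a, ha⟩ := s.2 x
          exact ⟨V, m, i, a, fun y => by rw [← h]; exact congrArg (ρ y) (ha y)⟩⟩
        map_zero' := Subtype.ext (funext fun x => map_zero (ρ x))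
        map_add' := fun s t => Subtype.ext (funext fun x => map_add (ρ x) _ _) }
     naturality := fun _ _ _ => rfl }⟩

theorem mapHom_val (ρ : ∀ x, T x →+ T' x) (h : ∀ x a, ρ x (π x a) = π' x a) {U : Opens X}
    (s : (sheaf K T π).obj.obj (op U)) (x : U) :
    ((mapHom ρ h).hom.app (op U) s).1 x = ρ x (s.1 x) := rfl

theorem mapHom_isLocallySurjective (ρ : ∀ x, T x →+ T' x) (h : ∀ x a, ρ x (π x a) = π' x a) :
    TopCat.Presheaf.IsLocallySurjective (mapHom ρ h).hom := by
  rw [TopCat.Presheaf.isLocallySurjective_iff]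
  intro U t x hx
  obtain ⟨V, m, i, a, ha⟩ := t.2 ⟨x, hx⟩
  refine ⟨V, i.le, ⟨const a V, ?_⟩, m⟩
  apply Subtype.ext
  funext y
  exact ((h y a).trans (ha y).symm)

end LocConst

/-- The constant sheaf with value `K`, as a sheaf of locally constant functions. -/
abbrev constSheaf (X : TopCat.{u}) (K : Type u) [AddCommGroup K] : CohTop.Ab X :=
  LocConst.sheaf K (fun _ : X => K) (fun _ => AddMonoidHom.id K)

section Irreducible

variable {X : TopCat.{u}} [PreirreducibleSpace X] {K : Type u} [AddCommGroup K]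

theorem constSheaf_exists_const {U : Opens X} (s : (constSheaf X K).obj.obj (op U))
    (hU : (U : Set X).Nonempty) : ∃ a : K, ∀ x : U, s.1 x = a := by
  obtain ⟨x₀, hx₀⟩ := hU
  obtain ⟨V₀, m₀, i₀, a₀, h₀⟩ := s.2 ⟨x₀, hx₀⟩
  refine ⟨a₀, fun x => ?_⟩
  obtain ⟨V, m, i, a, h⟩ := s.2 x
  obtain ⟨y, hy₀, hy⟩ := nonempty_preirreducible_inter V₀.isOpen V.isOpen ⟨x₀, m₀⟩ ⟨x.1, m⟩
  have e₀ := h₀ ⟨y, hy₀⟩
  have e := h ⟨y, hy⟩
  have e' := h ⟨x.1, m⟩
  have : a₀ = a := e₀.symm.trans e
  rw [this]
  exact e'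

instance constSheaf_isFlasque : TopCat.Sheaf.IsFlasque (constSheaf X K) where
  epi {U V} i := by
    rw [AddCommGrpCat.epi_iff_surjective]
    intro t
    by_cases hV : (V.unop : Set X).Nonempty
    · obtain ⟨a, ha⟩ := constSheaf_exists_const t hV
      refine ⟨LocConst.const a U.unop, ?_⟩
      apply Subtype.ext
      funext x
      exact (ha x).symm
    · refine ⟨0, ?_⟩
      apply Subtype.ext
      funext x
      exact absurd ⟨x.1, x.2⟩ hV

end Irreducible

end Groth.Agent.Lib.Helper18.Curve
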