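import Groth.Agent.Lib.Helper18.Curve.FunctionField
import Groth.Agent.Lib.Helper18.FF.Exists
import Groth.Agent.Lib.Helper18.FF.Approx
import Groth.Agent.Lib.Helper5.RegSmoothScheme2

/-! # Closed points of a smooth proper curve and places of its function field -/

set_option autoImplicit false
set_option linter.style.haveILetI false
set_option linter.unusedSectionVars false

universe u

open AlgebraicGeometry CategoryTheory TopologicalSpace FunFld

namespace Groth.Agent.Lib.Helper18.Curve

open Groth.Agent.Lib.Helper18.FF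

variable {k : Type u} [Field k] {C : Scheme.{u}} [IsIntegral C]
  (f : C ⟶ Spec (CommRingCat.of k))

/-- The local rings of a smooth curve are valuation rings. -/
theorem valuationRing_stalk [Smooth f] (hdim : topologicalKrullDim C = 1) (x : C) :
    ValuationRing (C.presheaf.stalk x) := by
  haveI hreg := Groth.Agent.Lib.Helper5.RegSmooth.regular_stalk_of_smooth k C f x
  have h1 : ringKrullDim (C.presheaf.stalk x) ≤ 1 := by
    rw [← PrimeSpectrum.topologicalKrullDim_eq_ringKrullDim]
    exact ((C.fromSpecStalk x).isEmbedding.isInducing.topologicalKrullDim_le).trans hdim.le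
  have h2 : Module.finrank (IsLocalRing.ResidueField (C.presheaf.stalk x))
      (IsLocalRing.CotangentSpace (C.presheaf.stalk x)) ≤ 1 := by
    have h3 := (IsRegularLocalRing.iff_finrank_cotangentSpace (C.presheaf.stalk x)).mp hreg
    rw [← h3] at h1
    exact_mod_cast h1
  exact ((tfae_of_isNoetherianRing_of_isLocalRing_of_isDomain (C.presheaf.stalk x)).out 5 1).mp h2

/-- The local ring at `x`, as a subring of the function field. -/
noncomputable def Ox (x : C) : Subring (FF f) := (algebraMap (C.presheaf.stalk x) (FF f)).range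

theorem mem_Ox {x : C} {z : FF f} :
    z ∈ Ox f x ↔ ∃ a : C.presheaf.stalk x, algebraMap (C.presheaf.stalk x) (FF f) a = z := Iff.rfl

theorem algebraMap_mem_Ox (x : C) (c : k) : algebraMap k (FF f) c ∈ Ox f x :=
  ⟨_, algebraMap_stalk_germ_top f x c⟩

/-- The local ring at a point of a smooth curve, as a valuation subring of the function field. -/
noncomputable def OxV [Smooth f] (hdim : topologicalKrullDim C = 1) (x : C) :
    ValuationSubring (FF f) :=
  { Ox f x with
    mem_or_inv_mem' := fun z => by
      haveI := valuationRing_stalk f hdim x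
      rcases ValuationRing.isInteger_or_isInteger (C.presheaf.stalk x) z with ⟨a, ha⟩ | ⟨a, ha⟩
      · exact Or.inl ⟨a, ha⟩
      · exact Or.inr ⟨a, ha⟩ }

theorem mem_OxV [Smooth f] (hdim : topologicalKrullDim C = 1) {x : C} {z : FF f} :
    z ∈ OxV f hdim x ↔ z ∈ Ox f x := Iff.rfl

/-- The stalk at a point other than the generic point is not a field. -/
theorem exists_nonunit_stalk {x : C} (hx : x ≠ genericPoint C) :
    ∃ a : C.presheaf.stalk x, a ≠ 0 ∧ ¬ IsUnit a := by
  by_contra hcon
  have hfld : IsField (C.presheaf.stalk x) := by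
    refine ⟨⟨0, 1, zero_ne_one⟩, mul_comm, fun {a} ha => ?_⟩
    by_contra hna
    exact hcon ⟨a, ha, fun hu => hna hu.exists_right_inv⟩
  -- then `Spec` of the stalk is a single point
  have hgen : genericPoint C ∈ Set.range (C.fromSpecStalk x) := by
    rw [Scheme.range_fromSpecStalk]
    exact (genericPoint_spec C).specializes trivial
  obtain ⟨p, hp⟩ := hgen
  letI := hfld.toField
  have hpc : p = IsLocalRing.closedPoint (C.presheaf.stalk x) := by
    apply PrimeSpectrum.ext
    show p.asIdeal = IsLocalRing.maximalIdeal _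
    rw [IsLocalRing.maximalIdeal_eq_bot]
    exact (Ideal.eq_bot_or_top _).resolve_right p.isPrime.ne_top
  rw [hpc, Scheme.fromSpecStalk_closedPoint] at hp
  exact hx hp

variable [Smooth f]

/-- The place of the function field attached to a closed point. -/
theorem exists_place_of_point (hK : IsFunctionField k (FF f)) (hdim : topologicalKrullDim C = 1)
    {x : C} (hx : x ≠ genericPoint C) :
    ∃ P : Place k (FF f), ∀ z : FF f, P.1 z ≤ 1 ↔ z ∈ Ox f x := by
  obtain ⟨a, ha0, hau⟩ := exists_nonunit_stalk hx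
  set A := OxV f hdim x with hA
  have hkA : ∀ c : k, algebraMap k (FF f) c ∈ A := fun c => algebraMap_mem_Ox f x c
  set y : FF f := algebraMap (C.presheaf.stalk x) (FF f) a with hy
  have hinj := IsFractionRing.injective (C.presheaf.stalk x) (FF f)
  have hy0 : y ≠ 0 := by
    rw [hy, Ne, map_eq_zero_iff _ hinj]; exact ha0
  have hyA : y ∈ A := ⟨a, rfl⟩
  have hy1 : A.valuation y < 1 := by
    rw [lt_iff_le_and_ne]
    refine ⟨(A.valuation_le_one_iff y).mpr hyA, fun h1 => ?_⟩
    -- `y` would be a unit of `A`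
    have hinv : y⁻¹ ∈ A := by
      rw [← A.valuation_le_one_iff, map_inv₀, h1, inv_one]
    obtain ⟨b, hb⟩ := hinv
    apply hau
    refine IsUnit.of_mul_eq_one b ?_
    apply hinj
    rw [map_mul, map_one, hb, ← hy, mul_inv_cancel₀ hy0]
  obtain ⟨P, hP1, hP2⟩ := exists_place_of_valuationSubring hK A hkA hy0 hy1
  refine ⟨P, fun z => ⟨fun hz => ?_, fun hz => hP1 z hz⟩⟩
  by_contra hzA
  have hzA' : z ∉ A := hzA
  have h1 : 1 < A.valuation z := by
    rw [← not_le, A.valuation_le_one_iff]; exact hzA'
  have hz0 : z ≠ 0 := by rintro rfl; exact hzA' A.zero_mem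
  have h2 : A.valuation z⁻¹ < 1 := by
    rw [map_inv₀]
    exact inv_lt_one_of_one_lt₀ h1
  have h3 := hP2 _ h2
  rw [map_inv₀] at h3
  have h4 : 1 < P.1 z := by
    have hpz : P.1 z ≠ 0 := (Valuation.ne_zero_iff _).mpr hz0
    exact (inv_lt_one₀ (zero_lt_iff.mpr hpz)).mp h3
  exact absurd hz (not_le.mpr h4)

/-- Two places with the same valuation ring are equal. -/
theorem place_ext {P Q : Place k (FF f)} (h : ∀ z : FF f, P.1 z ≤ 1 ↔ Q.1 z ≤ 1) : P = Q := by
  by_contra hne
  obtain ⟨y, hy1, hy2⟩ := exists_val_le_one_lt hne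
  exact absurd ((h y).mp hy1) (not_le.mpr hy2)

variable [UniversallyClosed f]

/-- Every place is the place of a unique closed point. -/
theorem exists_point_of_place (hdim : topologicalKrullDim C = 1) (P : Place k (FF f)) :
    ∃ x : C, x ≠ genericPoint C ∧ ∀ z : FF f, P.1 z ≤ 1 ↔ z ∈ Ox f x := by
  obtain ⟨x, φ, hloc, hφ⟩ := exists_center f P
  refine ⟨x, center_ne_generic φ hφ, fun z => ⟨fun hz => ?_, ?_⟩⟩
  · -- `𝒪_x` is a valuation ring dominated by `𝒪_P`
    by_contra hzx
    have hz0 : z ≠ 0 := by rintro rfl; exact hzx (Ox f x).zero_mem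
    have hinv : z⁻¹ ∈ OxV f hdim x :=
      ((OxV f hdim x).mem_or_inv_mem z).resolve_left hzx
    obtain ⟨b, hb⟩ := hinv
    -- `b` is not a unit of the stalk
    have hbu : ¬ IsUnit b := by
      intro hu
      obtain ⟨c, hc⟩ := hu.exists_right_inv
      apply hzx
      refine ⟨c, ?_⟩
      have := congrArg (algebraMap (C.presheaf.stalk x) (FF f)) hc
      rw [map_mul, map_one, hb] at this
      exact (eq_inv_of_mul_eq_one_right this).trans (inv_inv z)
    have hφb : ¬ IsUnit (φ b) := fun hu => hbu (hloc.map_nonunit b hu)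
    have hlt : P.1 ((φ b : P.O) : FF f) < 1 := by
      have hmem : φ b ∈ IsLocalRing.maximalIdeal P.O := hφb
      exact (Valuation.mem_maximalIdeal_iff (v := P.1)).mp hmem
    rw [hφ, hb, map_inv₀] at hlt
    have hpz : P.1 z ≠ 0 := (Valuation.ne_zero_iff _).mpr hz0
    have h4 : 1 < P.1 z := (inv_lt_one₀ (zero_lt_iff.mpr hpz)).mp hlt
    exact absurd hz (not_le.mpr h4)
  · rintro ⟨a, rfl⟩
    rw [← hφ]
    exact (φ a).2

end Groth.Agent.Lib.Helper18.Curve
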