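import Groth.Agent.Lib.Helper18.Curve.LocConst
import Groth.Agent.Lib.Helper18.Curve.Places
import Groth.Agent.Lib.Helper6.SheafCoh

/-! # The exact sequence `0 → 𝒪 → 𝒦 → 𝒦/𝒪 → 0` on an integral scheme and `H¹(𝒪)` -/

set_option autoImplicit false
set_option linter.style.haveILetI false
set_option linter.unusedSectionVars false

universe u

open AlgebraicGeometry CategoryTheory CategoryTheory.Limits TopologicalSpace Opposite FunFld

namespace Groth.Agent.Lib.Helper18.Curve

variable {k : Type u} [Field k] {C : Scheme.{u}} [IsIntegral C]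
  (f : C ⟶ Spec (CommRingCat.of k))

/-- The fibre `K / 𝒪_x`. -/
abbrev Tq (x : C) : Type u := FF f ⧸ (Ox f x).toAddSubgroup

/-- The projection `K → K / 𝒪_x`. -/
noncomputable def πq (x : C) : FF f →+ Tq f x := QuotientAddGroup.mk' _

theorem πq_eq_zero_iff {x : C} {a : FF f} : πq f x a = 0 ↔ a ∈ Ox f x :=
  QuotientAddGroup.eq_zero_iff a

theorem πq_eq_iff {x : C} {a b : FF f} : πq f x a = πq f x b ↔ a - b ∈ Ox f x := by
  rw [← sub_eq_zero, ← map_sub, πq_eq_zero_iff]

theorem πq_surjective (x : C) : Function.Surjective (πq f x) := QuotientAddGroup.mk'_surjective _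

/-- The constant sheaf `𝒦`. -/
noncomputable abbrev sheafK : CohTop.Ab C.carrier := constSheaf C.carrier (FF f)

/-- The sheaf `𝒦 / 𝒪`. -/
noncomputable abbrev sheafQ : CohTop.Ab C.carrier := LocConst.sheaf (FF f) (Tq f) (πq f)

/-- `𝒦 → 𝒦/𝒪`. -/
noncomputable def ψ : sheafK f ⟶ sheafQ f := LocConst.mapHom (πq f) (fun _ _ => rfl)

/-- The structure sheaf, as an abelian sheaf. -/
noncomputable abbrev sheafO (C : Scheme.{u}) : CohTop.Ab C.carrier :=
  Coh.toAb (Coh.structureModule C)

theorem germ_eq_germToFunctionField {U : C.Opens} (x : U) (s : Γ(C, U)) :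
    haveI : Nonempty U := ⟨x⟩
    algebraMap (C.presheaf.stalk x.1) (FF f) (C.presheaf.germ U x.1 x.2 s) =
      C.germToFunctionField U s := by
  haveI : Nonempty U := ⟨x⟩
  exact Scheme.algebraMap_germ_eq_germToFunctionField C x.2 s

/-- The function `x ↦ s_x ∈ K` attached to a section `s` of `𝒪`. -/
noncomputable def φfun {U : C.Opens} (s : Γ(C, U)) : (sheafK f).obj.obj (op U) :=
  LocConst.mk (fun x => algebraMap (C.presheaf.stalk x.1) (FF f) (C.presheaf.germ U x.1 x.2 s))
    (fun x => ⟨U, x.2, 𝟙 _, algebraMap (C.presheaf.stalk x.1) (FF f) (C.presheaf.germ U x.1 x.2 s),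
      fun y => by
        show algebraMap (C.presheaf.stalk y.1) (FF f) (C.presheaf.germ U y.1 y.2 s) =
          algebraMap (C.presheaf.stalk x.1) (FF f) (C.presheaf.germ U x.1 x.2 s)
        rw [germ_eq_germToFunctionField f y s, germ_eq_germToFunctionField f x s]⟩)

theorem φfun_val {U : C.Opens} (s : Γ(C, U)) (x : U) :
    (φfun f s).1 x = algebraMap (C.presheaf.stalk x.1) (FF f) (C.presheaf.germ U x.1 x.2 s) := rfl

/-- `φfun` as an additive map. -/
noncomputable def φhom (U : C.Opens) : Γ(C, U) →+ (sheafK f).obj.obj (op U) where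
  toFun := φfun f
  map_zero' := by
    apply Subtype.ext
    funext x
    show algebraMap _ (FF f) (C.presheaf.germ U x.1 x.2 (0 : Γ(C, U))) = 0
    rw [map_zero, map_zero]
  map_add' := fun s t => by
    apply Subtype.ext
    funext x
    show algebraMap _ (FF f) (C.presheaf.germ U x.1 x.2 (s + t)) =
      algebraMap _ (FF f) (C.presheaf.germ U x.1 x.2 s) +
        algebraMap _ (FF f) (C.presheaf.germ U x.1 x.2 t)
    rw [map_add, map_add]

theorem φhom_naturality {U V : C.Opens} (i : V ⟶ U) (s : Γ(C, U)) :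
    φhom f V ((C.presheaf.map i.op).hom s) = (sheafK f).obj.map i.op (φhom f U s) := by
  apply Subtype.ext
  funext x
  show algebraMap _ (FF f) (C.presheaf.germ V x.1 x.2 ((C.presheaf.map i.op).hom s)) =
    algebraMap _ (FF f) (C.presheaf.germ U x.1 (i.le x.2) s)
  exact congrArg _ (TopCat.Presheaf.germ_res_apply C.presheaf i x.1 x.2 s)

/-- `𝒪 → 𝒦`. -/
noncomputable def φ : sheafO C ⟶ sheafK f :=
  ⟨{ app := fun U => AddCommGrpCat.ofHom (φhom f U.unop)
     naturality := fun U V i => by
      ext s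
      exact φhom_naturality f i.unop s }⟩

theorem φ_val {U : C.Opens} (s : Γ(C, U)) : (φ f).hom.app (op U) s = φfun f s := rfl

theorem φfun_val' {U : C.Opens} (s : Γ(C, U)) (x : U) :
    haveI : Nonempty U := ⟨x⟩
    (φfun f s).1 x = C.germToFunctionField U s := by
  rw [φfun_val]
  exact germ_eq_germToFunctionField f x s

theorem φhom_injective (U : C.Opens) : Function.Injective (φhom f U) := by
  intro s t hst
  by_cases hU : Nonempty U
  · obtain ⟨x⟩ := hU
    haveI : Nonempty U := ⟨x⟩
    have h1 : (φfun f s).1 x = (φfun f t).1 x := congrArg (fun z => z.1 x) hst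
    rw [φfun_val' f s x, φfun_val' f t x] at h1
    exact Scheme.germToFunctionField_injective C U h1
  · have hbot : U = ⊥ := by
      ext y
      simp only [Opens.coe_bot, Set.mem_empty_iff_false, iff_false]
      exact fun hy => hU ⟨⟨y, hy⟩⟩
    subst hbot
    exact Subsingleton.elim _ _

/-- An element of the function field lying in every local ring of `U` is a section over `U`. -/
theorem exists_section_of_forall_mem_Ox {U : C.Opens} [Nonempty U] (a : FF f)
    (ha : ∀ x : U, a ∈ Ox f x.1) : ∃ t : Γ(C, U), C.germToFunctionField U t = a := by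
  classical
  have hloc : ∀ p : U, ∃ (V : C.Opens) (_ : p.1 ∈ V) (_ : V ≤ U) (s : Γ(C, V)),
      algebraMap (C.presheaf.stalk p.1) (FF f) (C.presheaf.germ V p.1 ‹_› s) = a := by
    intro p
    obtain ⟨g, hg⟩ := ha p
    obtain ⟨V, hp, s, hs⟩ := C.presheaf.exists_germ_eq g
    refine ⟨V ⊓ U, ⟨hp, p.2⟩, inf_le_right, C.presheaf.map (homOfLE inf_le_left).op s, ?_⟩
    rw [TopCat.Presheaf.germ_res_apply, hs]
    exact hg
  choose V hpV hVU sf hsf using hloc
  have hne : ∀ p, Nonempty (V p) := fun p => ⟨⟨p.1, hpV p⟩⟩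
  have hsf' : ∀ p, C.germToFunctionField (V p) (sf p) = a := by
    intro p
    rw [← Scheme.algebraMap_germ_eq_germToFunctionField C (hpV p) (sf p)]
    exact hsf p
  have hgen : ∀ W : C.Opens, Nonempty W → genericPoint C ∈ W := by
    intro W hW
    exact ((genericPoint_spec C).mem_open_set_iff W.isOpen).mpr (by simpa using hW)
  have hcompat : TopCat.Presheaf.IsCompatible C.presheaf V sf := by
    intro p q
    have hne' : Nonempty (V p ⊓ V q : C.Opens) :=
      ⟨⟨genericPoint C, hgen _ (hne p), hgen _ (hne q)⟩⟩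
    apply C.germToFunctionField_injective (V p ⊓ V q)
    have h1 : C.germToFunctionField (V p ⊓ V q)
        (C.presheaf.map (Opens.infLELeft (V p) (V q)).op (sf p)) =
        C.germToFunctionField (V p) (sf p) :=
      C.presheaf.germ_res_apply (Opens.infLELeft (V p) (V q)) (genericPoint C) _ (sf p)
    have h2 : C.germToFunctionField (V p ⊓ V q)
        (C.presheaf.map (Opens.infLERight (V p) (V q)).op (sf q)) =
        C.germToFunctionField (V q) (sf q) :=
      C.presheaf.germ_res_apply (Opens.infLERight (V p) (V q)) (genericPoint C) _ (sf q)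
    rw [h1, h2, hsf', hsf']
  have hcover : U ≤ iSup V := by
    intro p hp
    exact Opens.mem_iSup.2 ⟨⟨p, hp⟩, hpV ⟨p, hp⟩⟩
  obtain ⟨s, hs, -⟩ := C.sheaf.existsUnique_gluing' V U (fun p => homOfLE (hVU p)) hcover sf hcompat
  refine ⟨s, ?_⟩
  obtain ⟨p⟩ : Nonempty U := inferInstance
  have h3 : C.germToFunctionField (V p) (C.presheaf.map (homOfLE (hVU p)).op s) =
      C.germToFunctionField U s :=
    C.presheaf.germ_res_apply (homOfLE (hVU p)) (genericPoint C) _ s
  rw [← h3]
  have := hs p
  change C.presheaf.map (homOfLE (hVU p)).op s = sf p at this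
  rw [this, hsf']

theorem φ_comp_ψ : φ f ≫ ψ f = 0 := by
  apply Sheaf.hom_ext
  ext U s
  apply Subtype.ext
  funext x
  show πq f x.1 ((φfun f (U := U.unop) s).1 x) = 0
  rw [πq_eq_zero_iff, φfun_val]
  exact ⟨_, rfl⟩

/-- The short complex `𝒪 → 𝒦 → 𝒦/𝒪`. -/
noncomputable def sesComplex : ShortComplex (CohTop.Ab C.carrier) :=
  ShortComplex.mk (φ f) (ψ f) (φ_comp_ψ f)

theorem sesComplex_shortExact : (sesComplex f).ShortExact := by
  refine shortExact_of_sections _ (fun U => φhom_injective f U) ?_ ?_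
  · intro U s hs
    by_cases hU : Nonempty U
    · haveI := hU
      obtain ⟨a, ha⟩ := constSheaf_exists_const s ⟨hU.some.1, hU.some.2⟩
      have hmem : ∀ x : U, a ∈ Ox f x.1 := by
        intro x
        have h1 : πq f x.1 (s.1 x) = 0 := congrArg (fun z => z.1 x) hs
        rw [πq_eq_zero_iff, ha x] at h1
        exact h1
      obtain ⟨t, ht⟩ := exists_section_of_forall_mem_Ox f a hmem
      refine ⟨t, ?_⟩
      apply Subtype.ext
      funext x
      show (φfun f t).1 x = s.1 x
      rw [φfun_val' f t x, ha x]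
      exact ht
    · refine ⟨0, ?_⟩
      apply Subtype.ext
      funext x
      exact (hU ⟨x⟩).elim
  · exact LocConst.mapHom_isLocallySurjective (πq f) (fun _ _ => rfl)

/-- `H¹(C, 𝒪_C)` is the cokernel of `K → Γ(C, 𝒦/𝒪)`. -/
theorem nonempty_H1_structure_equiv :
    Nonempty (Coh.HH C (Coh.structureModule C) 1 ≃+
      ((sheafQ f).obj.obj (op ⊤) ⧸ ((ψ f).hom.app (op ⊤)).hom.range)) := by
  refine nonempty_H1_equiv (sesComplex_shortExact f) ?_
  intro x
  exact Groth.Agent.Lib.Helper6.SheafCoh.flasque_H_eq_zero (sheafK f) 0 x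

end Groth.Agent.Lib.Helper18.Curve
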