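import Mathlib
import Groth.Prelude.Def_CohTop

/-! # Two general lemmas on abelian sheaves on a topological space -/

set_option autoImplicit false

universe u

open CategoryTheory CategoryTheory.Limits TopologicalSpace Opposite CategoryTheory.Abelian

namespace Groth.Agent.Lib.Helper18.Curve

variable {X : TopCat.{u}}

/-- A short complex of abelian sheaves which is left exact on sections and locally surjective on the
right is short exact. -/
theorem shortExact_of_sections (S : ShortComplex (CohTop.Ab X))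
    (hinj : ∀ U : Opens X, Function.Injective (S.f.hom.app (op U)))
    (hex : ∀ (U : Opens X) (s : S.X₂.obj.obj (op U)), S.g.hom.app (op U) s = 0 →
      ∃ t : S.X₁.obj.obj (op U), S.f.hom.app (op U) t = s)
    (hsurj : TopCat.Presheaf.IsLocallySurjective S.g.hom) : S.ShortExact := by
  have hmono : Mono S.f := by
    have : Mono S.f.hom := by
      rw [NatTrans.mono_iff_mono_app]
      intro U
      rw [AddCommGrpCat.mono_iff_injective]
      exact hinj U.unop
    exact Sheaf.Hom.mono_of_presheaf_mono _ _ S.f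
  have hepi : Epi S.g := (TopCat.Sheaf.isLocallySurjective_iff_epi S.g).mp hsurj
  refine ShortComplex.ShortExact.mk' ?_ hmono hepi
  let F := sheafToPresheaf (Opens.grothendieckTopology X) AddCommGrpCat.{u}
  have hzero : F.map S.f ≫ F.map S.g = 0 := by
    rw [← F.map_comp, S.zero, F.map_zero]
  have hker : ∀ U : (Opens X)ᵒᵖ,
      IsLimit (((evaluation _ _).obj U).mapCone (KernelFork.ofι (F.map S.f) hzero)) := by
    intro U
    refine (isLimitMapConeForkEquiv' ((evaluation _ _).obj U) hzero).symm ?_
    let T : ShortComplex AddCommGrpCat.{u} :=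
      ShortComplex.mk (S.f.hom.app U) (S.g.hom.app U) (by
        have := congrArg (fun φ => φ.app U) hzero
        exact this)
    have hT : T.Exact := by
      rw [ShortComplex.ab_exact_iff]
      intro s hs
      exact hex U.unop s hs
    haveI hTm : Mono T.f := by
      rw [AddCommGrpCat.mono_iff_injective]
      exact hinj U.unop
    exact hT.fIsKernel
  have h1 : IsLimit (KernelFork.ofι (F.map S.f) hzero) :=
    evaluationJointlyReflectsLimits _ hker
  have h2 : IsLimit (F.mapCone (KernelFork.ofι S.f S.zero)) :=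
    (isLimitMapConeForkEquiv' F S.zero).symm h1
  exact S.exact_of_f_is_kernel (isLimitOfReflects F h2)

/-- For a short exact sequence of abelian sheaves whose middle term has no `H¹`, the `H¹` of the
left term is the cokernel of the map on global sections of the right-hand map. -/
theorem nonempty_H1_equiv {S : ShortComplex (CohTop.Ab X)} (hS : S.ShortExact)
    (h0 : ∀ x : Sheaf.H S.X₂ 1, x = 0) :
    Nonempty (Sheaf.H S.X₁ 1 ≃+
      (S.X₃.obj.obj (op ⊤) ⧸ (S.g.hom.app (op ⊤)).hom.range)) := by
  let Z : CohTop.Ab X := (constantSheaf _ AddCommGrpCat).obj (AddCommGrpCat.of (ULift ℤ))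
  let δ : Sheaf.H S.X₃ 0 →+ Sheaf.H S.X₁ 1 := hS.extClass.postcomp Z (zero_add 1)
  have hδsurj : Function.Surjective δ := by
    intro x₁
    obtain ⟨x₃, hx₃⟩ := Ext.covariant_sequence_exact₁ Z hS x₁ (h0 _) (zero_add 1)
    exact ⟨x₃, hx₃⟩
  have hT : IsTerminal (⊤ : Opens X) := isTerminalTop
  let e₂ := Sheaf.H.equiv₀ S.X₂ hT
  let e₃ := Sheaf.H.equiv₀ S.X₃ hT
  let δ' : S.X₃.obj.obj (op ⊤) →+ Sheaf.H S.X₁ 1 := δ.comp e₃.symm.toAddMonoidHom
  have hδ'surj : Function.Surjective δ' := hδsurj.comp e₃.symm.surjective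
  have hker : δ'.ker = (S.g.hom.app (op ⊤)).hom.range := by
    ext s
    rw [AddMonoidHom.mem_ker, AddMonoidHom.mem_range]
    constructor
    · intro hs
      obtain ⟨x₂, hx₂⟩ := Ext.covariant_sequence_exact₃ Z hS (e₃.symm s) (zero_add 1) hs
      refine ⟨e₂ x₂, ?_⟩
      have h1 := Sheaf.H.equiv₀_naturality hT S.g x₂
      rw [Sheaf.H.map_apply, hx₂, AddEquiv.apply_symm_apply] at h1
      exact h1
    · rintro ⟨t, rfl⟩
      show δ (e₃.symm (S.g.hom.app (op ⊤) t)) = 0
      rw [← Sheaf.H.equiv₀_symm_naturality hT S.g t, Sheaf.H.map_apply]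
      show ((e₂.symm t).comp (Ext.mk₀ S.g) (add_zero 0)).comp hS.extClass (zero_add 1) = 0
      rw [Ext.comp_assoc (e₂.symm t) (Ext.mk₀ S.g) hS.extClass (add_zero 0) (zero_add 1)
        (by omega : 0 + 0 + 1 = 1), hS.comp_extClass, Ext.comp_zero]
  exact ⟨((QuotientAddGroup.quotientAddEquivOfEq hker.symm).trans
    (QuotientAddGroup.quotientKerEquivOfSurjective δ' hδ'surj)).symm⟩

end Groth.Agent.Lib.Helper18.Curve
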